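import Mathlib.Algebra.MonoidAlgebra.Basic
import Mathlib.Algebra.MonoidAlgebra.MapDomain
import Mathlib.Algebra.CharP.Lemmas
import Mathlib.Algebra.CharP.Algebra
import Mathlib.Algebra.Field.ZMod
import Mathlib.FieldTheory.Finite.Basic
import Mathlib.GroupTheory.SpecificGroups.Cyclic
import Mathlib.NumberTheory.LSeries.PrimesInAP
import Mathlib.RingTheory.Polynomial.Cyclotomic.Roots
import Mathlib.RingTheory.RootsOfUnity.Complex
import Mathlib.GroupTheory.Coset.Card
import Mathlib.Algebra.Order.BigOperators.Ring.Finset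

/-!
# Group algebra of a finite abelian group

Elementary tools for the S-ring proof that dihedral groups are B-groups.
-/

set_option autoImplicit false
set_option linter.all false

namespace CfsgLib.Char.DihedralB

open Finset

noncomputable section

/-- The group algebra. -/
abbrev GA (R A : Type*) [Semiring R] := AddMonoidAlgebra R A

variable {A : Type*} [AddCommGroup A] [Fintype A] {R S : Type*} [CommRing R] [CommRing S]

/-- The element with prescribed coefficients. -/
def mk (f : A → R) : GA R A := AddMonoidAlgebra.ofCoeff (Finsupp.equivFunOnFinite.symm f)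

@[simp] theorem coeff_mk (f : A → R) (a : A) : (mk f).coeff a = f a := by
  simp [mk]

theorem ga_ext {u w : GA R A} (h : ∀ a, u.coeff a = w.coeff a) : u = w :=
  AddMonoidAlgebra.ext (Finsupp.ext h)

theorem coeff_mul_sum (u w : GA R A) (a : A) :
    (u * w).coeff a = ∑ t, u.coeff t * w.coeff (a - t) := by
  classical
  rw [AddMonoidAlgebra.coeff_mul_antidiag u w a (univ.image fun t => (t, a - t))
    (fun {q} => by
      simp only [Finset.mem_image, Finset.mem_univ, true_and]
      refine ⟨?_, fun h => ⟨q.1, ?_⟩⟩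
      · rintro ⟨t, rfl⟩; exact add_sub_cancel t a
      · rw [← h, add_sub_cancel_left])]
  rw [Finset.sum_image (fun a _ b _ h => congrArg Prod.fst h)]

/-- The adjoint. -/
def flip : GA R A →+* GA R A :=
  AddMonoidAlgebra.mapDomainRingHom R (negAddMonoidHom : A →+ A)

@[simp] theorem coeff_flip (u : GA R A) (a : A) : (flip u).coeff a = u.coeff (-a) := by
  simp only [flip, AddMonoidAlgebra.mapDomainRingHom_apply, AddMonoidAlgebra.coeff_mapDomain]
  conv_lhs => rw [show a = negAddMonoidHom (-a) from (neg_neg a).symm]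
  exact Finsupp.mapDomain_apply (fun x y h => neg_injective h) _ _

@[simp] theorem flip_flip (u : GA R A) : flip (flip u) = u := ga_ext fun a => by simp

theorem flip_eq_self {u : GA R A} (h : ∀ a, u.coeff (-a) = u.coeff a) : flip u = u :=
  ga_ext fun a => by simp [h]

theorem coeff_mul_flip (u w : GA R A) (a : A) :
    (u * flip w).coeff a = ∑ t, u.coeff t * w.coeff (t - a) := by
  simp [coeff_mul_sum, neg_sub]

theorem coeff_mul_flip_zero (u w : GA R A) :
    (u * flip w).coeff 0 = ∑ t, u.coeff t * w.coeff t := by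
  simp [coeff_mul_flip]

/-- The augmentation. -/
def aug : GA R A →+* R where
  toFun u := ∑ a, u.coeff a
  map_zero' := by simp
  map_add' u w := by simp [Finset.sum_add_distrib]
  map_one' := by
    rw [Finset.sum_eq_single (0 : A)]
    · simp [AddMonoidAlgebra.coeff_one_zero]
    · intro b _ hb
      simp [AddMonoidAlgebra.one_def, Finsupp.single_eq_of_ne hb]
    · simp
  map_mul' u w := by
    simp only [coeff_mul_sum]
    rw [Finset.sum_comm, Finset.sum_mul]
    refine Finset.sum_congr rfl fun t _ => ?_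
    rw [← Finset.mul_sum]
    congr 1
    exact Equiv.sum_comp (Equiv.subRight t) fun b => w.coeff b

theorem aug_apply (u : GA R A) : aug u = ∑ a, u.coeff a := rfl

@[simp] theorem aug_flip (u : GA R A) : aug (flip u) = aug u := by
  simp only [aug_apply, coeff_flip]
  exact Equiv.sum_comp (Equiv.neg A) fun b => u.coeff b

/-- The sum of all group elements. -/
def tot : GA R A := mk fun _ => 1

@[simp] theorem coeff_tot (a : A) : (tot : GA R A).coeff a = 1 := coeff_mk _ _

theorem aug_tot : aug (tot : GA R A) = (Fintype.card A : R) := by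
  simp [aug_apply, tot]

theorem mul_tot (u : GA R A) : u * tot = aug u • tot := ga_ext fun a => by
  simp [coeff_mul_sum, aug_apply, tot]

@[simp] theorem flip_tot : flip (tot : GA R A) = tot := flip_eq_self fun a => by simp

/-- Change of coefficients. -/
def cmap (f : R →+* S) : GA R A →+* GA S A := AddMonoidAlgebra.mapRingHom A f

@[simp] theorem coeff_cmap (f : R →+* S) (u : GA R A) (a : A) :
    (cmap f u).coeff a = f (u.coeff a) :=
  AddMonoidAlgebra.coeff_mapRingHom f u a

theorem flip_cmap (f : R →+* S) (u : GA R A) : flip (cmap f u) = cmap f (flip u) :=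
  ga_ext fun a => by simp

/-- In characteristic `p` the `p`-th power collects coefficients along multiplication by `p`. -/
theorem coeff_pow_prime [DecidableEq A] {p : ℕ} [Fact p.Prime] (u : GA (ZMod p) A) (b : A) :
    (u ^ p).coeff b = ∑ a ∈ univ.filter (fun a => p • a = b), u.coeff a := by
  have hu : u = ∑ a, AddMonoidAlgebra.single a (u.coeff a) := ga_ext fun c => by
    rw [AddMonoidAlgebra.coeff_sum, Finset.sum_apply']
    simp [Finsupp.single_apply]
  haveI : CharP (GA (ZMod p) A) p :=
    charP_of_injective_algebraMap' (ZMod p) p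
  conv_lhs => rw [hu]
  rw [sum_pow_char p, AddMonoidAlgebra.coeff_sum, Finset.sum_apply', Finset.sum_filter]
  refine Finset.sum_congr rfl fun a _ => ?_
  rw [AddMonoidAlgebra.single_pow, ZMod.pow_card]
  simp [Finsupp.single_apply]

theorem sum_periodic [DecidableEq A] {z : A} (f : A → R) (hf : ∀ a, f (a + z) = f a) :
    ∃ c, ∑ a, f a = addOrderOf z • c := by
  classical
  set H := AddSubgroup.zmultiples z
  have hper : ∀ h ∈ H, ∀ a, f (a + h) = f a := by
    intro h hh
    obtain ⟨k, rfl⟩ := hh
    intro a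
    exact Function.Periodic.zsmul hf k a
  refine ⟨∑ q : A ⧸ H, f q.out, ?_⟩
  rw [← Finset.sum_fiberwise univ (QuotientAddGroup.mk : A → A ⧸ H) f, Finset.smul_sum]
  refine Finset.sum_congr rfl fun q _ => ?_
  have hfib : ∀ a ∈ univ.filter (fun a : A => (a : A ⧸ H) = q), f a = f q.out := by
    intro a ha
    have h1 : ((q.out : A) : A ⧸ H) = a := by
      rw [(Finset.mem_filter.1 ha).2]; exact Quotient.out_eq q
    have h2 := hper _ (QuotientAddGroup.eq.1 h1) q.out
    rwa [add_neg_cancel_left] at h2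
  rw [Finset.sum_congr rfl hfib, Finset.sum_const]
  congr 1
  rw [← Nat.card_zmultiples, Nat.card_eq_fintype_card, ← Finset.card_univ]
  symm
  refine Finset.card_bij (fun (h : H) _ => q.out + (h : A)) ?_ ?_ ?_
  · intro h _
    refine Finset.mem_filter.2 ⟨mem_univ _, ?_⟩
    conv_rhs => rw [← Quotient.out_eq q]
    refine QuotientAddGroup.eq.2 ?_
    simpa using h.2
  · intro a _ b _ h
    exact Subtype.ext (add_left_cancel h)
  · intro a ha
    have h1 : ((q.out : A) : A ⧸ H) = a := by
      rw [(Finset.mem_filter.1 ha).2]; exact Quotient.out_eq q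
    exact ⟨⟨_, QuotientAddGroup.eq.1 h1⟩, mem_univ _, add_neg_cancel_left _ _⟩

/-- The averaging idempotent of a subgroup. -/
def hat (H : AddSubgroup A) : GA ℚ A := by
  classical exact mk fun a => if a ∈ H then ((Nat.card H : ℚ))⁻¹ else 0

theorem coeff_hat (H : AddSubgroup A) (a : A) [Decidable (a ∈ H)] :
    (hat H).coeff a = if a ∈ H then ((Nat.card H : ℚ))⁻¹ else 0 := by
  rw [hat, coeff_mk]; congr

theorem sum_mem_card (H : AddSubgroup A) [DecidablePred (· ∈ H)] :
    ((univ.filter (· ∈ H)).card : ℚ) = Nat.card H := by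
  rw [Nat.card_eq_fintype_card, Fintype.card_subtype]

theorem mul_hat_of_periodic {u : GA ℚ A} (H : AddSubgroup A)
    (h : ∀ a, ∀ t ∈ H, u.coeff (a + t) = u.coeff a) : u * hat H = u := ga_ext fun a => by
  classical
  rw [mul_comm, coeff_mul_sum]
  simp only [coeff_hat, ite_mul, zero_mul]
  rw [← Finset.sum_filter, ← Finset.mul_sum]
  rw [Finset.sum_congr rfl (fun t ht => ?_ : ∀ t ∈ univ.filter (· ∈ H), u.coeff (a - t) = u.coeff a),
    Finset.sum_const, nsmul_eq_mul, sum_mem_card, inv_mul_cancel_left₀]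
  · exact Nat.cast_ne_zero.2 Nat.card_pos.ne'
  · have := h (a - t) t (Finset.mem_filter.1 ht).2
    rwa [sub_add_cancel, eq_comm] at this

theorem mul_hat_of_support {u : GA ℚ A} (H : AddSubgroup A)
    (h : ∀ a, a ∉ H → u.coeff a = 0) : u * hat H = aug u • hat H := ga_ext fun a => by
  classical
  rw [AddMonoidAlgebra.coeff_smul, Finsupp.smul_apply, coeff_mul_sum, aug_apply, smul_eq_mul,
    Finset.sum_mul]
  refine Finset.sum_congr rfl fun t _ => ?_
  by_cases ht : t ∈ H
  · have e : a - t ∈ H ↔ a ∈ H :=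
      ⟨fun h => by simpa using H.add_mem h ht, fun h => H.sub_mem h ht⟩
    simp only [coeff_hat, e]
  · rw [h t ht, zero_mul, zero_mul]

@[simp] theorem hat_mul_self (H : AddSubgroup A) : hat H * hat H = hat H :=
  mul_hat_of_periodic H fun a t ht => by
    classical simp only [coeff_hat, H.add_mem_cancel_right ht]

theorem flip_hat (H : AddSubgroup A) : flip (hat H) = hat H := flip_eq_self fun a => by
  classical simp only [coeff_hat, H.neg_mem_iff]

theorem hat_top : hat (⊤ : AddSubgroup A) = (Fintype.card A : ℚ)⁻¹ • tot := ga_ext fun a => by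
  classical simp [coeff_hat, Nat.card_eq_fintype_card]

open Polynomial in
/-- Roots in an arithmetic progression are fixed by the rational conjugations. -/
theorem dilate_fixed {W : GA ℤ A} {C : ℤ} (hC : C ≠ 0)
    (hW : W * (W - C • 1) * (W - (2 * C) • 1) = 0) {k : ℕ} (hk : k.Coprime (Fintype.card A)) (a : A) :
    W.coeff (k • a) = W.coeff a := by
  classical
  set n := Fintype.card A
  haveI : NeZero n := ⟨Fintype.card_ne_zero⟩
  obtain ⟨ℓ, hℓN, hℓ, hℓk⟩ := Nat.forall_exists_prime_gt_and_eq_mod
    ((ZMod.isUnit_iff_coprime k n).2 hk)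
    (n + (2 * C).natAbs + (W.coeff (k • a) - W.coeff a).natAbs)
  haveI := Fact.mk hℓ
  have hsmul : ∀ x : A, ℓ • x = k • x := fun x => by
    rw [← mod_addOrderOf_nsmul x ℓ, ← mod_addOrderOf_nsmul x k]
    congr 1
    exact Nat.ModEq.of_dvd addOrderOf_dvd_card ((ZMod.natCast_eq_natCast_iff _ _ _).1 hℓk)
  set f := Int.castRingHom (ZMod ℓ)
  set V := cmap f W
  have hV : V * (V - (C : ZMod ℓ) • 1) * (V - ((2 * C : ℤ) : ZMod ℓ) • 1) = 0 := by
    have := congrArg (cmap f) hW
    simp only [map_mul, map_sub, map_zero, map_zsmul, map_one, ← Int.cast_smul_eq_zsmul (ZMod ℓ)] at this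
    exact this
  have hCne : ∀ c : ℤ, c ≠ 0 → c.natAbs ≤ (2 * C).natAbs → (c : ZMod ℓ) ≠ 0 := by
    intro c hc hle h
    rw [ZMod.intCast_zmod_eq_zero_iff_dvd] at h
    have := Nat.le_of_dvd (Int.natAbs_pos.2 hc) (Int.natCast_dvd.1 h)
    omega
  have h1 : (C : ZMod ℓ) ≠ 0 := hCne C hC (by omega)
  have h2 : ((2 * C : ℤ) : ZMod ℓ) ≠ 0 := hCne _ (by omega) le_rfl
  have h12 : (C : ZMod ℓ) ≠ ((2 * C : ℤ) : ZMod ℓ) := by
    intro e
    rw [Int.cast_mul, Int.cast_ofNat, two_mul] at e
    exact h1 (left_eq_add.1 e)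
  have hdvd : (∏ x ∈ ({0, (C : ZMod ℓ), ((2 * C : ℤ) : ZMod ℓ)} : Finset (ZMod ℓ)),
      (Polynomial.X - Polynomial.C x)) ∣ (Polynomial.X ^ ℓ - Polynomial.X : Polynomial (ZMod ℓ)) := by
    refine (Finset.prod_dvd_prod_of_subset _ univ _ (Finset.subset_univ _)).trans ?_
    have := Polynomial.prod_multiset_X_sub_C_dvd
      (Polynomial.X ^ Fintype.card (ZMod ℓ) - Polynomial.X : Polynomial (ZMod ℓ))
    rw [FiniteField.roots_X_pow_card_sub_X] at this
    rw [ZMod.card] at this
    exact this
  obtain ⟨Q, hQ⟩ := hdvd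
  have hpow : V ^ ℓ = V := by
    have := congrArg (Polynomial.aeval V) hQ
    rw [Finset.prod_insert (by simp only [Finset.mem_insert, Finset.mem_singleton, not_or]; exact ⟨h1.symm, h2.symm⟩),
      Finset.prod_insert (by simpa using h12),
      Finset.prod_singleton] at this
    simp only [map_sub, map_pow, map_mul, Polynomial.aeval_X, Polynomial.aeval_C, map_zero,
      sub_zero, ← Algebra.algebraMap_eq_smul_one] at this hV
    rw [← mul_assoc V, hV, zero_mul, sub_eq_zero] at this
    exact this
  have hinj : Function.Injective fun x : A => ℓ • x :=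
    (Nat.Coprime.nsmul_right_bijective (G := A) (n := ℓ) (by
      rw [Nat.card_eq_fintype_card]
      exact ((Nat.Prime.coprime_iff_not_dvd hℓ).2 fun h => by
        have := Nat.le_of_dvd Fintype.card_pos h
        omega).symm)).1
  have h3 : (V ^ ℓ).coeff (k • a) = V.coeff a := by
    rw [coeff_pow_prime, Finset.sum_eq_single a]
    · intro b hb hne
      exact absurd (hinj ((Finset.mem_filter.1 hb).2.trans (hsmul a).symm)) hne
    · intro h
      refine absurd ?_ h
      simp [hsmul a]
  rw [hpow] at h3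
  simp only [V, coeff_cmap, f, Int.coe_castRingHom] at h3
  have h4 : ((W.coeff (k • a) - W.coeff a : ℤ) : ZMod ℓ) = 0 := by rw [Int.cast_sub, h3, sub_self]
  rw [ZMod.intCast_zmod_eq_zero_iff_dvd] at h4
  by_contra hne
  have := Nat.le_of_dvd (Int.natAbs_pos.2 (sub_ne_zero.2 hne)) (Int.natCast_dvd.1 h4)
  omega

/-- A rational relation between the `p`-th roots of unity has equal coefficients. -/
theorem eq_of_zeta {p : ℕ} [Fact p.Prime] (h : ℕ → ℚ) {ζ : ℂ} (hζ : IsPrimitiveRoot ζ p)
    (h0 : ∑ k ∈ range p, (h k : ℂ) * ζ ^ k = 0) {i : ℕ} (hi : i < p) : h i = h 0 := by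
  have hp := (Fact.out : p.Prime)
  let P : Polynomial ℚ := ∑ k ∈ range p, Polynomial.C (h k) * Polynomial.X ^ k
  have hcoef : ∀ j < p, P.coeff j = h j := by
    intro j hj
    simp [P, Polynomial.finsetSum_coeff, hj]
  have hev : Polynomial.aeval ζ P = 0 := by
    simpa [P, map_sum] using h0
  have hdvd : Polynomial.cyclotomic p ℚ ∣ P := by
    rw [Polynomial.cyclotomic_eq_minpoly_rat hζ hp.pos]
    exact minpoly.dvd ℚ ζ hev
  obtain ⟨Q, hQ⟩ := hdvd
  have hdeg : P.natDegree ≤ p - 1 := by
    refine Polynomial.natDegree_sum_le_of_forall_le _ _ fun k hk => ?_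
    refine (Polynomial.natDegree_C_mul_X_pow_le _ _).trans ?_
    have := Finset.mem_range.1 hk
    omega
  obtain ⟨c, hc⟩ : ∃ c, P = Polynomial.cyclotomic p ℚ * Polynomial.C c := by
    by_cases hQ0 : Q = 0
    · exact ⟨0, by simp [hQ, hQ0]⟩
    refine ⟨Q.coeff 0, ?_⟩
    rw [← Polynomial.eq_C_of_natDegree_eq_zero]
    · exact hQ
    rw [hQ, Polynomial.natDegree_mul (Polynomial.cyclotomic_ne_zero p ℚ) hQ0,
      Polynomial.natDegree_cyclotomic, Nat.totient_prime hp] at hdeg
    omega
  have hval : ∀ j < p, h j = c := by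
    intro j hj
    rw [← hcoef j hj, hc, Polynomial.coeff_mul_C, Polynomial.cyclotomic_prime,
      Polynomial.finsetSum_coeff]
    simp [Polynomial.coeff_X_pow, hj]
  rw [hval i hi, hval 0 hp.pos]

end

end CfsgLib.Char.DihedralB
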