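import Cfsg.Agent.Lib.Char.DihedralB.Alg
import Mathlib.GroupTheory.SpecificGroups.Cyclic
import Mathlib.Analysis.Fourier.ZMod
import Mathlib.RingTheory.ZMod.UnitsCyclic

/-!
# Rational functions on a finite cyclic group
-/

set_option autoImplicit false
set_option linter.all false

namespace CfsgLib.Char.DihedralB

open Finset

noncomputable section

variable {A : Type*} [AddCommGroup A] [Fintype A] [IsAddCyclic A]

theorem mem_iff_card_nsmul (H : AddSubgroup A) (a : A) : a ∈ H ↔ Nat.card H • a = 0 := by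
  classical
  refine ⟨fun h => ?_, fun h => ?_⟩
  · exact congrArg Subtype.val (show Nat.card H • (⟨a, h⟩ : H) = 0 from card_nsmul_eq_zero')
  · have hsub : univ.filter (· ∈ H) ⊆ univ.filter fun x : A => Nat.card H • x = 0 := fun x hx => by
      simp only [Finset.mem_filter, Finset.mem_univ, true_and] at hx ⊢
      exact congrArg Subtype.val (show Nat.card H • (⟨x, hx⟩ : H) = 0 from card_nsmul_eq_zero')
    have heq := Finset.eq_of_subset_of_card_le hsub (by
      refine (IsAddCyclic.card_nsmul_eq_zero_le Nat.card_pos).trans (le_of_eq ?_)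
      rw [Nat.card_eq_fintype_card, Fintype.card_subtype])
    have : a ∈ univ.filter fun x : A => Nat.card H • x = 0 := Finset.mem_filter.2 ⟨mem_univ _, h⟩
    rw [← heq] at this
    simpa using this

theorem mem_zmultiples_iff' {z a : A} : a ∈ AddSubgroup.zmultiples z ↔ addOrderOf z • a = 0 := by
  rw [mem_iff_card_nsmul, Nat.card_zmultiples]

theorem mem_of_prime_dvd_card {z : A} {p : ℕ} (hz : addOrderOf z = p) (H : AddSubgroup A)
    (h : p ∣ Nat.card H) : z ∈ H := by
  rw [mem_iff_card_nsmul, ← addOrderOf_dvd_iff_nsmul_eq_zero, hz]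
  exact h

theorem exists_gen (H : AddSubgroup A) : ∃ g, AddSubgroup.zmultiples g = H := by
  haveI : IsAddCyclic H := inferInstance
  obtain ⟨⟨g, hg⟩, hgen⟩ := IsAddCyclic.exists_generator (α := H)
  refine ⟨g, le_antisymm (AddSubgroup.zmultiples_le.2 hg) fun x hx => ?_⟩
  obtain ⟨k, hk⟩ := hgen ⟨x, hx⟩
  exact ⟨k, congrArg Subtype.val hk⟩

/-- Constant on elements generating the same subgroup. -/
def SameGen {M : Type*} (F : A → M) : Prop :=
  ∀ a b : A, AddSubgroup.zmultiples a = AddSubgroup.zmultiples b → F a = F b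

theorem sameGen_of_dilate {M : Type*} {F : A → M}
    (h : ∀ (k : ℕ) (a : A), k.Coprime (Fintype.card A) → F (k • a) = F a) : SameGen F := by
  intro a b hab
  haveI : NeZero (Fintype.card A) := ⟨Fintype.card_ne_zero⟩
  set d := addOrderOf a with hd
  haveI : NeZero d := ⟨(addOrderOf_pos a).ne'⟩
  obtain ⟨i, hi⟩ : ∃ i : ℕ, i • a = b := by
    have hb : b ∈ AddSubgroup.zmultiples a := hab ▸ AddSubgroup.mem_zmultiples b
    exact (isOfFinAddOrder_of_finite a).mem_multiples_iff_mem_zmultiples.2 hb
  have hco : i.Coprime d := by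
    have h1 : addOrderOf b = d := by rw [hd, ← Nat.card_zmultiples, ← hab, Nat.card_zmultiples]
    rw [← hi, addOrderOf_nsmul] at h1
    rw [Nat.coprime_comm]
    exact (Nat.div_eq_self.1 h1).resolve_left (addOrderOf_pos a).ne'
  obtain ⟨u, hu⟩ := ZMod.unitsMap_surjective (show d ∣ Fintype.card A from addOrderOf_dvd_card)
    (ZMod.unitOfCoprime i hco)
  have hki : ((u.val.val : ℕ) : ZMod d) = (i : ZMod d) := by
    have := congrArg Units.val hu
    rw [ZMod.unitsMap_val, ZMod.coe_unitOfCoprime] at this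
    rw [← this, ← ZMod.cast_eq_val]
  rw [← hi, ← mod_addOrderOf_nsmul a i, ← (ZMod.natCast_eq_natCast_iff' _ _ d).1 hki,
    mod_addOrderOf_nsmul, h _ a (ZMod.val_coe_unit_coprime u)]

open Classical in
/-- A rational function is a combination of subgroup indicators. -/
theorem exists_expansion {M : Type*} [AddCommGroup M] {F : A → M} (hF : SameGen F) :
    ∃ b : AddSubgroup A → M, ∀ a, F a = ∑ H ∈ univ.filter (fun H : AddSubgroup A => a ∈ H), b H := by
  classical
  choose g hg using fun H : AddSubgroup A => exists_gen H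
  suffices ∀ n : ℕ, ∃ b : AddSubgroup A → M, ∀ H : AddSubgroup A, Nat.card A < Nat.card H + n →
      ∑ K ∈ univ.filter (fun K => H ≤ K), b K = F (g H) by
    obtain ⟨b, hb⟩ := this (Nat.card A + 1)
    refine ⟨b, fun a => ?_⟩
    rw [hF a (g (AddSubgroup.zmultiples a)) (hg _).symm, ← hb _ (by omega)]
    refine Finset.sum_congr ?_ fun _ _ => rfl
    ext K
    simp [AddSubgroup.zmultiples_le]
  intro n
  induction n with
  | zero =>
    refine ⟨0, fun H h => absurd h (not_lt.2 ?_)⟩
    simpa using Nat.le_of_dvd Nat.card_pos (AddSubgroup.card_addSubgroup_dvd_card H)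
  | succ n ih =>
    obtain ⟨b, hb⟩ := ih
    refine ⟨fun H => if Nat.card A = Nat.card H + n then
      F (g H) - ∑ K ∈ univ.filter (fun K => H < K), b K else b H, fun H hH => ?_⟩
    have hup : ∀ K ∈ univ.filter (fun K : AddSubgroup A => H < K),
        (if Nat.card A = Nat.card K + n then
          F (g K) - ∑ L ∈ univ.filter (fun L => K < L), b L else b K) = b K := by
      intro K hK
      have hlt : Nat.card H < Nat.card K := by
        have h := (Finset.mem_filter.1 hK).2
        refine lt_of_le_of_ne (Nat.le_of_dvd Nat.card_pos (AddSubgroup.card_dvd_of_le h.le)) fun e => ?_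
        exact h.ne (AddSubgroup.eq_of_le_of_card_ge h.le e.ge)
      rw [if_neg (by omega)]
    have hins : univ.filter (fun K : AddSubgroup A => H ≤ K) =
        insert H (univ.filter fun K => H < K) := by
      ext K
      simp only [Finset.mem_filter, Finset.mem_univ, true_and, Finset.mem_insert]
      rw [le_iff_eq_or_lt, eq_comm]
    rw [hins, Finset.sum_insert (by simp), Finset.sum_congr rfl hup]
    by_cases hn : Nat.card A = Nat.card H + n
    · rw [if_pos hn, sub_add_cancel]
    · rw [if_neg hn, ← hb H (by omega), hins, Finset.sum_insert (by simp)]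

/-- An injective character. -/
theorem exists_injective_char : ∃ ψ : AddChar A ℂ, Function.Injective ψ := by
  haveI : NeZero (Nat.card A) := ⟨Nat.card_pos.ne'⟩
  let e : A ≃+ ZMod (Nat.card A) := (zmodAddCyclicAddEquiv (inferInstance : IsAddCyclic A)).symm
  exact ⟨(ZMod.stdAddChar).compAddMonoidHom e.toAddMonoidHom,
    ZMod.injective_stdAddChar.comp e.injective⟩

/-- The character with kernel `L`. -/
def chr (L : AddSubgroup A) : AddChar A ℂ :=
  (Classical.choose (exists_injective_char (A := A))).compAddMonoidHom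
    (nsmulAddMonoidHom (Nat.card L))

theorem chr_eq_one_iff (L : AddSubgroup A) (a : A) : chr L a = 1 ↔ a ∈ L := by
  rw [mem_iff_card_nsmul, chr, AddChar.compAddMonoidHom_apply, nsmulAddMonoidHom_apply]
  refine ⟨fun h => (Classical.choose_spec (exists_injective_char (A := A))) ?_, fun h => by simp [h]⟩
  rw [h, AddChar.map_zero_eq_one]

/-- Evaluation at a character with kernel `L`. -/
def ev (L : AddSubgroup A) : GA ℚ A →ₐ[ℚ] ℂ :=
  AddMonoidAlgebra.lift ℚ ℂ A (chr L).toMonoidHom

theorem ev_apply (L : AddSubgroup A) (u : GA ℚ A) :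
    ev L u = ∑ a, (u.coeff a : ℂ) * chr L a := by
  rw [ev, AddMonoidAlgebra.lift_apply, Finsupp.sum_fintype _ _ (by simp)]
  simp [Rat.smul_def]

open Classical in
theorem ev_hat (L H : AddSubgroup A) : ev L (hat H) = if H ≤ L then 1 else 0 := by
  rw [ev_apply]
  simp only [coeff_hat, apply_ite (fun x : ℚ => (x : ℂ)), Rat.cast_inv, Rat.cast_natCast,
    Rat.cast_zero, ite_mul, zero_mul]
  rw [← Finset.sum_filter, ← Finset.mul_sum]
  split_ifs with hHL
  · rw [Finset.sum_congr rfl (fun a ha => (chr_eq_one_iff L a).2 (hHL (Finset.mem_filter.1 ha).2)),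
      Finset.sum_const, nsmul_eq_mul, mul_one, ← Fintype.card_subtype, ← Nat.card_eq_fintype_card,
      inv_mul_cancel₀ (Nat.cast_ne_zero.2 Nat.card_pos.ne')]
  · obtain ⟨h, hh, hhL⟩ := SetLike.not_le_iff_exists.1 hHL
    have hone : chr L h ≠ 1 := fun e => hhL ((chr_eq_one_iff L h).1 e)
    set S := ∑ a ∈ univ.filter (· ∈ H), chr L a
    have hS : chr L h * S = S := by
      rw [Finset.mul_sum]
      refine Finset.sum_equiv (Equiv.addLeft h) (fun a => ?_) fun a _ => ?_
      · simp [H.add_mem_cancel_left hh]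
      · simp [AddChar.map_add_eq_mul]
    have : (chr L h - 1) * S = 0 := by rw [sub_mul, hS, one_mul, sub_self]
    rw [(mul_eq_zero.1 this).resolve_left (sub_ne_zero.2 hone), mul_zero]

open Classical in
theorem ev_expansion {q : GA ℚ A} {b : AddSubgroup A → ℚ}
    (hb : ∀ a, q.coeff a = ∑ H ∈ univ.filter (fun H : AddSubgroup A => a ∈ H), b H)
    (L : AddSubgroup A) :
    ev L q = ((∑ H ∈ univ.filter (fun H : AddSubgroup A => H ≤ L), Nat.card H * b H : ℚ) : ℂ) := by
  have hq : q = ∑ H : AddSubgroup A, ((Nat.card H : ℚ) * b H) • hat H := ga_ext fun a => by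
    rw [hb a, AddMonoidAlgebra.coeff_sum, Finset.sum_apply', Finset.sum_filter]
    refine Finset.sum_congr rfl fun H _ => ?_
    rw [AddMonoidAlgebra.coeff_smul, Finsupp.smul_apply, coeff_hat, smul_eq_mul]
    split_ifs
    · rw [mul_comm ((Nat.card H : ℚ)), mul_assoc,
        mul_inv_cancel₀ (Nat.cast_ne_zero.2 Nat.card_pos.ne'), mul_one]
    · rw [mul_zero]
  rw [hq, map_sum, Finset.sum_filter, Rat.cast_sum]
  refine Finset.sum_congr rfl fun H _ => ?_
  rw [map_smul, ev_hat, Rat.smul_def]
  split_ifs <;> simp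

/-- Integral values and congruences of a rational function with integral spectrum. -/
theorem int_congr {q : GA ℚ A} (hq : SameGen fun a => q.coeff a)
    (hev : ∀ L, ∃ n : ℤ, ev L q = n) :
    ∃ f : A → ℤ, (∀ a, (f a : ℚ) = Fintype.card A * q.coeff a) ∧
      ∀ p : ℕ, p.Prime → ∀ v : ℕ, p ^ v ∣ Fintype.card A → ∀ y z : A, addOrderOf z = p →
        ¬ p ∣ addOrderOf y → ((p ^ v : ℕ) : ℤ) ∣ f y - f (y + z) := by
  classical
  obtain ⟨b, hb⟩ := exists_expansion hq
  have hint : ∀ k, ∀ H : AddSubgroup A, Nat.card H ≤ k → ∃ n : ℤ, (Nat.card H : ℚ) * b H = n := by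
    intro k
    induction k with
    | zero => intro H h; exact absurd h (by have := Nat.card_pos (α := H); omega)
    | succ k ih =>
      intro L hL
      obtain ⟨n, hn⟩ := hev L
      rw [ev_expansion hb, ← Rat.cast_intCast, Rat.cast_inj] at hn
      have hins : univ.filter (fun H : AddSubgroup A => H ≤ L) =
          insert L (univ.filter fun H => H < L) := by
        ext K
        simp only [Finset.mem_filter, Finset.mem_univ, true_and, Finset.mem_insert]
        exact le_iff_eq_or_lt
      rw [hins, Finset.sum_insert (by simp)] at hn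
      have : ∀ H ∈ univ.filter (fun H : AddSubgroup A => H < L),
          ∃ n : ℤ, (Nat.card H : ℚ) * b H = n := by
        intro H hH
        have h := (Finset.mem_filter.1 hH).2
        refine ih H ?_
        have h1 : Nat.card H < Nat.card L :=
          lt_of_le_of_ne (Nat.le_of_dvd Nat.card_pos (AddSubgroup.card_dvd_of_le h.le))
            fun e => h.ne (AddSubgroup.eq_of_le_of_card_ge h.le e.ge)
        omega
      choose! N hN using this
      rw [Finset.sum_congr rfl hN, ← Int.cast_sum, ← eq_sub_iff_add_eq, ← Int.cast_sub] at hn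
      exact ⟨_, hn⟩
  choose N hN using fun H : AddSubgroup A => hint _ H le_rfl
  refine ⟨fun a => ∑ H ∈ univ.filter (fun H : AddSubgroup A => a ∈ H),
    N H * (Fintype.card A / Nat.card H : ℕ), fun a => ?_, ?_⟩
  · rw [hb a, Int.cast_sum, Finset.mul_sum]
    refine Finset.sum_congr rfl fun H _ => ?_
    rw [Int.cast_mul, ← hN, Int.cast_natCast, Nat.cast_div
      (Nat.card_eq_fintype_card (α := A) ▸ AddSubgroup.card_addSubgroup_dvd_card H)
      (Nat.cast_ne_zero.2 Nat.card_pos.ne'), ← mul_div_assoc, mul_comm (Nat.card H : ℚ), mul_assoc,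
      mul_div_assoc, mul_div_cancel_left₀ _ (Nat.cast_ne_zero.2 Nat.card_pos.ne'), mul_comm]
  · intro p hp v hv y z hz hy
    simp only
    rw [Finset.sum_filter, Finset.sum_filter, ← Finset.sum_sub_distrib]
    refine Finset.dvd_sum fun H _ => ?_
    by_cases hzH : z ∈ H
    · rw [if_congr (H.add_mem_cancel_right hzH) rfl rfl, sub_self]
      exact dvd_zero _
    · have hnd : ¬ p ∣ Nat.card H := fun h => hzH (mem_of_prime_dvd_card hz H h)
      have hdA : Nat.card H ∣ Fintype.card A :=
        Nat.card_eq_fintype_card (α := A) ▸ AddSubgroup.card_addSubgroup_dvd_card H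
      have hd : ((p ^ v : ℕ) : ℤ) ∣ ((Fintype.card A / Nat.card H : ℕ) : ℤ) := by
        rw [Int.natCast_dvd_natCast]
        refine Nat.Coprime.dvd_of_dvd_mul_left ?_
          (show p ^ v ∣ Nat.card H * (Fintype.card A / Nat.card H) by rwa [Nat.mul_div_cancel' hdA])
        exact Nat.Coprime.pow_left _ ((Nat.Prime.coprime_iff_not_dvd hp).2 hnd)
      refine dvd_sub ?_ ?_ <;> split_ifs <;> first | exact dvd_mul_of_dvd_right hd _ | exact dvd_zero _

/-- With a spectrum in `{-1,0,1}` and a denominator prime to `ℓ`, a rational function is constant on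
the elements whose order has an odd prime divisor. -/
theorem const_odd {X : A → ℤ} (hX : SameGen X) {r : ℤ} (hr : r ≠ 0) {c : ℚ} {q : GA ℚ A}
    (hq : ∀ a, (r : ℚ) * q.coeff a = X a - c)
    (hev : ∀ L : AddSubgroup A, L ≠ ⊤ → ∃ n : ℤ, ev L q = n ∧ |n| ≤ 1)
    (hodd : ∀ ℓ : ℕ, ℓ.Prime → ℓ ∣ r.natAbs → ℓ = 2)
    {a a' : A} (ha : ∃ ℓ, ℓ.Prime ∧ ℓ ≠ 2 ∧ ℓ ∣ addOrderOf a)
    (ha' : ∃ ℓ, ℓ.Prime ∧ ℓ ≠ 2 ∧ ℓ ∣ addOrderOf a') : X a = X a' := by
  classical
  obtain ⟨b, hb⟩ := exists_expansion hX
  set B : AddSubgroup A → ℚ := fun H => ((b H : ℚ) - if H = ⊤ then c else 0) / r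
  have hqB : ∀ a, q.coeff a = ∑ H ∈ univ.filter (fun H : AddSubgroup A => a ∈ H), B H := by
    intro a
    simp only [B]
    rw [← Finset.sum_div, Finset.sum_sub_distrib, Finset.sum_ite_eq', if_pos (by simp),
      eq_div_iff (Int.cast_ne_zero.2 hr), ← Int.cast_sum, ← hb a, mul_comm]
    exact hq a
  have key : ∀ k, ∀ L : AddSubgroup A, Nat.card L ≤ k → L ≠ ⊤ → ∀ ℓ : ℕ, ℓ.Prime → ℓ ≠ 2 →
      ℓ ∣ Nat.card L → b L = 0 := by
    intro k
    induction k with
    | zero => intro H h; exact absurd h (by have := Nat.card_pos (α := H); omega)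
    | succ k ih =>
      intro L hL hLt ℓ hℓ hℓ2 hℓL
      set n := ordCompl[ℓ] (Nat.card L) with hn
      have hnd : n ∣ Nat.card L := Nat.ordCompl_dvd _ _
      have hℓn : ¬ ℓ ∣ n := Nat.not_dvd_ordCompl hℓ Nat.card_pos.ne'
      set L' : AddSubgroup A := (nsmulAddMonoidHom n : A →+ A).ker with hL'
      have hmem : ∀ x, x ∈ L' ↔ n • x = 0 := fun x => AddMonoidHom.mem_ker
      have hle : L' ≤ L := fun x hx => by
        rw [mem_iff_card_nsmul]
        obtain ⟨t, ht⟩ := hnd
        rw [ht, mul_comm, mul_nsmul', (hmem x).1 hx, nsmul_zero]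
      have hL't : L' ≠ ⊤ := fun h => hLt (top_le_iff.1 (h ▸ hle))
      obtain ⟨n1, hn1, hn1'⟩ := hev L hLt
      obtain ⟨n2, hn2, hn2'⟩ := hev L' hL't
      rw [ev_expansion hqB, ← Rat.cast_intCast, Rat.cast_inj] at hn1 hn2
      have hsub : univ.filter (fun H : AddSubgroup A => H ≤ L') ⊆
          univ.filter (fun H : AddSubgroup A => H ≤ L) := fun H hH => by
        simp only [Finset.mem_filter, Finset.mem_univ, true_and] at hH ⊢
        exact hH.trans hle
      rw [← Finset.sum_sdiff hsub, hn2, Finset.sum_eq_single L] at hn1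
      · have hBL : B L = (b L : ℚ) / r := by simp [B, hLt]
        rw [hBL, ← mul_div_assoc, ← eq_sub_iff_add_eq, div_eq_iff (Int.cast_ne_zero.2 hr)] at hn1
        have hZ : (Nat.card L : ℤ) * b L = (n1 - n2) * r := by exact_mod_cast hn1
        have hdvd : (ℓ : ℤ) ∣ (n1 - n2) * r := hZ ▸ dvd_mul_of_dvd_left (Int.natCast_dvd_natCast.2 hℓL) _
        rcases (Nat.prime_iff_prime_int.1 hℓ).dvd_or_dvd hdvd with h | h
        · have hbound : |n1 - n2| < ℓ := by
            have := abs_sub n1 n2
            have := hℓ.two_le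
            omega
          rw [Int.eq_zero_of_abs_lt_dvd h hbound, zero_mul] at hZ
          exact (mul_eq_zero.1 hZ).resolve_left (Int.natCast_ne_zero.2 Nat.card_pos.ne')
        · exact absurd (hodd ℓ hℓ (Int.natCast_dvd.1 h)) hℓ2
      · intro H hH hne
        simp only [Finset.mem_sdiff, Finset.mem_filter, Finset.mem_univ, true_and] at hH
        have hlt : Nat.card H < Nat.card L :=
          lt_of_le_of_ne (Nat.le_of_dvd Nat.card_pos (AddSubgroup.card_dvd_of_le hH.1))
            fun e => hne (AddSubgroup.eq_of_le_of_card_ge hH.1 e.ge)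
        have hℓH : ℓ ∣ Nat.card H := by
          by_contra hnot
          refine hH.2 fun x hx => (hmem x).2 ?_
          have hcH : Nat.card H ∣ n :=
            Nat.Coprime.dvd_of_dvd_mul_left
              (Nat.Coprime.pow_right _ ((Nat.Prime.coprime_iff_not_dvd hℓ).2 hnot).symm)
              (show Nat.card H ∣ ℓ ^ _ * n by
                rw [hn, Nat.ordProj_mul_ordCompl_eq_self]; exact AddSubgroup.card_dvd_of_le hH.1)
          obtain ⟨t, ht⟩ := hcH
          rw [ht, mul_comm, mul_nsmul', (mem_iff_card_nsmul H x).1 hx, nsmul_zero]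
        have hHt : H ≠ ⊤ := fun h => hLt (top_le_iff.1 (h ▸ hH.1))
        simp [B, hHt, ih H (by omega) hHt ℓ hℓ hℓ2 hℓH]
      · intro h
        refine absurd ?_ h
        simp only [Finset.mem_sdiff, Finset.mem_filter, Finset.mem_univ, true_and, le_refl]
        intro hLL'
        obtain ⟨x, hx⟩ := exists_prime_addOrderOf_dvd_card' (G := L) (hp := ⟨hℓ⟩) ℓ hℓL
        have := (hmem _).1 (hLL' x.2)
        rw [← addOrderOf_dvd_iff_nsmul_eq_zero, AddSubgroup.addOrderOf_coe, hx] at this
        exact hℓn this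
  have hval : ∀ a : A, (∃ ℓ, ℓ.Prime ∧ ℓ ≠ 2 ∧ ℓ ∣ addOrderOf a) → X a = b ⊤ := by
    rintro x ⟨ℓ, hℓ, hℓ2, hℓx⟩
    rw [hb x, Finset.sum_eq_single (⊤ : AddSubgroup A)]
    · intro H hH hne
      refine key _ H le_rfl hne ℓ hℓ hℓ2 (hℓx.trans ?_)
      rw [addOrderOf_dvd_iff_nsmul_eq_zero]
      exact (mem_iff_card_nsmul H x).1 (Finset.mem_filter.1 hH).2
    · intro h; refine absurd ?_ h; simp
  rw [hval a ha, hval a' ha']

/-- Invariance under translation by an element of order `p` follows from the elements of order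
prime to `p`. -/
theorem periodic_of_sameGen {M : Type*} {F : A → M} (hF : SameGen F) {p : ℕ} (hp : p.Prime) {z : A}
    (hz : addOrderOf z = p) (h : ∀ y, y ≠ 0 → ¬ p ∣ addOrderOf y → F (y + z) = F y)
    {a : A} (ha : a ∉ AddSubgroup.zmultiples z) : F (a + z) = F a := by
  have ha0 : a ≠ 0 := fun e => ha (e ▸ zero_mem _)
  by_cases hpa : p ∣ addOrderOf a
  swap
  · exact h a ha0 hpa
  obtain ⟨n, hn⟩ := hpa
  have hzin : ∀ b : A, p ∣ addOrderOf b → z ∈ AddSubgroup.zmultiples b := fun b hb =>
    mem_of_prime_dvd_card hz _ (by rwa [Nat.card_zmultiples])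
  have hpz : p • z = 0 := hz ▸ addOrderOf_nsmul_eq_zero z
  by_cases hpn : p ∣ n
  · -- the translate generates the same subgroup
    refine hF _ _ (le_antisymm ?_ ?_)
    · exact AddSubgroup.zmultiples_le.2
        (add_mem (AddSubgroup.mem_zmultiples a) (hzin a ⟨n, hn⟩))
    · have hp' : p ∣ addOrderOf (a + z) := by
        refine hpn.trans ?_
        have h1 : addOrderOf (p • (a + z)) ∣ addOrderOf (a + z) :=
          addOrderOf_dvd_of_mem_zmultiples (nsmul_mem (AddSubgroup.mem_zmultiples _) _)
        rw [nsmul_add, hpz, add_zero, addOrderOf_nsmul' a hp.ne_zero, hn,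
          Nat.gcd_eq_right (dvd_mul_right p n), Nat.mul_div_cancel_left n hp.pos] at h1
        exact h1
      rw [AddSubgroup.zmultiples_le]
      have := sub_mem (AddSubgroup.mem_zmultiples (a + z)) (hzin _ hp')
      rwa [add_sub_cancel_right] at this
  · -- split off the part of order p
    have hna : n • a ∈ AddSubgroup.zmultiples z := by
      rw [mem_zmultiples_iff', hz, ← mul_nsmul', ← hn, addOrderOf_nsmul_eq_zero]
    obtain ⟨i, hi⟩ := hna
    change i • z = n • a at hi
    obtain ⟨u, v, huv⟩ : ∃ u v : ℤ, u * n + v * p = 1 :=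
      Int.isCoprime_iff_gcd_eq_one.2 (by
        rw [Int.gcd_natCast_natCast]
        exact ((Nat.Prime.coprime_iff_not_dvd hp).2 hpn).symm)
    set y := a - (u * i) • z with hy
    have hny : n • y = 0 := by
      have e1 : ((u * n) * i) • z = i • z := by
        rw [show u * n = 1 - v * p by omega, sub_mul, one_mul, sub_zsmul,
          show v * p * i = (v * i) * p by ring, mul_zsmul, natCast_zsmul, hpz, zsmul_zero, neg_zero,
          add_zero]
      rw [hy, nsmul_sub, ← natCast_zsmul (_ • z) n, ← mul_zsmul,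
        show (n : ℤ) * (u * i) = (u * n) * i by ring, e1, hi, sub_self]
    have hyp : ¬ p ∣ addOrderOf y := fun h' =>
      hpn (h'.trans (addOrderOf_dvd_iff_nsmul_eq_zero.2 hny))
    have hy0 : y ≠ 0 := fun e => ha (by
      rw [hy, sub_eq_zero] at e; rw [e]; exact ⟨_, rfl⟩)
    -- every translate has the value of `y`
    have hall : ∀ w ∈ AddSubgroup.zmultiples z, F (y + w) = F y := by
      intro w hw
      by_cases hw0 : w = 0
      · rw [hw0, add_zero]
      rw [← h y hy0 hyp]
      haveI := Fact.mk hp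
      have hord : ∀ w ∈ AddSubgroup.zmultiples z, w ≠ 0 → addOrderOf w = p := fun w hw hw0 =>
        addOrderOf_eq_prime (by rw [← hz]; exact (mem_zmultiples_iff').1 hw) hw0
      have hgen : ∀ w ∈ AddSubgroup.zmultiples z, w ≠ 0 →
          AddSubgroup.zmultiples (y + w) = AddSubgroup.zmultiples y ⊔ AddSubgroup.zmultiples z := by
        intro w hw hw0
        refine le_antisymm (AddSubgroup.zmultiples_le.2 (AddSubgroup.add_mem_sup
          (AddSubgroup.mem_zmultiples y) hw)) ?_
        have hp' : p ∣ addOrderOf (y + w) := by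
          by_contra hnot
          have : addOrderOf (addOrderOf (y + w) • w) ∣ addOrderOf y :=
            addOrderOf_dvd_of_mem_zmultiples (by
              have e : addOrderOf (y + w) • w = -(addOrderOf (y + w) • y) := by
                rw [eq_neg_iff_add_eq_zero, ← nsmul_add, add_comm, addOrderOf_nsmul_eq_zero]
              rw [e]
              exact neg_mem (nsmul_mem (AddSubgroup.mem_zmultiples _) _))
          rw [(Nat.Coprime.addOrderOf_nsmul (y := w) (m := addOrderOf (y + w)) (by
            rw [hord w hw hw0]; exact (Nat.Prime.coprime_iff_not_dvd hp).2 hnot)), hord w hw hw0] at this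
          exact hyp this
        have hz' := hzin _ hp'
        have hw' : w ∈ AddSubgroup.zmultiples (y + w) := AddSubgroup.zmultiples_le.2 hz' hw
        refine sup_le (AddSubgroup.zmultiples_le.2 ?_) (AddSubgroup.zmultiples_le.2 hz')
        have := sub_mem (AddSubgroup.mem_zmultiples (y + w)) hw'
        rwa [add_sub_cancel_right] at this
      have hzne : z ≠ 0 := fun e => by rw [e, addOrderOf_zero] at hz; exact hp.ne_one hz.symm
      exact hF _ _ ((hgen w hw hw0).trans (hgen z (AddSubgroup.mem_zmultiples z) hzne).symm)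
    have ea : a = y + (u * i) • z := (sub_add_cancel _ _).symm
    have hw : (u * i) • z ∈ AddSubgroup.zmultiples z := ⟨_, rfl⟩
    rw [ea, add_assoc, hall _ (add_mem hw (AddSubgroup.mem_zmultiples z)), hall _ hw]

end

end CfsgLib.Char.DihedralB
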