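import Cfsg.Agent.Lib.Char.DihedralB.Cyclic

/-!
# The sign idempotent of an S-ring over a dihedral group

A point `(a, false)` stands for the rotation `a`, a point `(a, true)` for a reflection.
-/

set_option autoImplicit false
set_option linter.all false

namespace CfsgLib.Char.DihedralB

open Finset

noncomputable section

variable {A : Type*} [AddCommGroup A] [Fintype A] [DecidableEq A]

/-- The pair function of two elements. -/
def val {R : Type*} [CommRing R] (u v : GA R A) (P : A × Bool) : R :=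
  cond P.2 (v.coeff P.1) (u.coeff P.1)

@[simp] theorem val_false {R : Type*} [CommRing R] (u v : GA R A) (a : A) :
    val u v (a, false) = u.coeff a := rfl

@[simp] theorem val_true {R : Type*} [CommRing R] (u v : GA R A) (a : A) :
    val u v (a, true) = v.coeff a := rfl

theorem sum_points {M : Type*} [AddCommMonoid M] (F : A × Bool → M) :
    ∑ P, F P = (∑ a, F (a, false)) + ∑ a, F (a, true) := by
  rw [Fintype.sum_prod_type_right, Fintype.sum_bool, add_comm]

/-- What the point stabilizer of a primitive group with a regular dihedral subgroup provides. -/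
structure DData (A : Type*) [AddCommGroup A] [Fintype A] [DecidableEq A] where
  build ::
  cls : A × Bool → Finset (A × Bool)
  mem_self : ∀ P, P ∈ cls P
  eq_of_mem : ∀ {P Q}, Q ∈ cls P → cls Q = cls P
  cls_zero : cls (0, false) = {(0, false)}
  symm : ∀ a, (-a, false) ∈ cls (a, false)
  hasA : ∀ P, P ≠ (0, false) → ∃ a, (a, false) ∈ cls P
  hasB : ∀ P, P ≠ (0, false) → ∃ a, (a, true) ∈ cls P
  mul : ∀ (R : Type) [CommRing R] (u v u' v' : GA R A),
    (∀ P, ∀ Q ∈ cls P, val u v Q = val u v P) → (∀ P, ∀ Q ∈ cls P, val u' v' Q = val u' v' P) →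
      ∀ P, ∀ Q ∈ cls P, val (u * u' + v * flip v') (u * v' + v * flip u') Q =
        val (u * u' + v * flip v') (u * v' + v * flip u') P
  inj : ∀ φ : A × Bool → Prop, (∀ P, ∀ Q ∈ cls P, φ Q ↔ φ P) → ¬ φ (0, false) → (∃ P, φ P) →
    ∀ z : A, (∀ a b, φ (a + z, b) ↔ φ (a, b)) → z = 0

namespace DData

variable (D : DData A)

/-- Invariant functions. -/
def IsInv {M : Type*} (φ : A × Bool → M) : Prop := ∀ P, ∀ Q ∈ D.cls P, φ Q = φ P

/-- Invariant pairs. -/
def Inv {R : Type*} [CommRing R] (u v : GA R A) : Prop := D.IsInv (val u v)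

theorem inv_mk {R : Type*} [CommRing R] {φ : A × Bool → R} (h : D.IsInv φ) :
    D.Inv (mk fun a => φ (a, false)) (mk fun a => φ (a, true)) := by
  have : val (mk fun a => φ (a, false)) (mk fun a => φ (a, true)) = φ := by
    funext P
    obtain ⟨a, _ | _⟩ := P <;> simp
  rw [Inv, this]
  exact h

theorem mem_comm {P Q : A × Bool} : Q ∈ D.cls P ↔ P ∈ D.cls Q :=
  ⟨fun h => D.eq_of_mem h ▸ D.mem_self P, fun h => D.eq_of_mem h ▸ D.mem_self Q⟩

theorem ne_zero_iff {P Q : A × Bool} (h : Q ∈ D.cls P) : Q ≠ (0, false) ↔ P ≠ (0, false) := by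
  constructor <;> intro hne e <;> subst e
  · rw [D.cls_zero, Finset.mem_singleton] at h; exact hne h
  · rw [D.mem_comm, D.cls_zero, Finset.mem_singleton] at h; exact hne h

theorem flip_of_inv {R : Type*} [CommRing R] {u v : GA R A} (h : D.Inv u v) : flip u = u :=
  flip_eq_self fun a => h (a, false) (-a, false) (D.symm a)

theorem inv_mul {R : Type} [CommRing R] {u v u' v' : GA R A} (h : D.Inv u v) (h' : D.Inv u' v') :
    D.Inv (u * u' + v * flip v') (u * v' + v * u') := by
  have := D.mul R u v u' v' h h'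
  rwa [D.flip_of_inv h'] at this

theorem inv_cmap {R S : Type*} [CommRing R] [CommRing S] (f : R →+* S) {u v : GA R A}
    (h : D.Inv u v) : D.Inv (cmap f u) (cmap f v) := by
  intro P Q hQ
  have := congrArg f (h P Q hQ)
  obtain ⟨a, _ | _⟩ := P <;> obtain ⟨b, _ | _⟩ := Q <;> simpa using this

/-- The sign character on points. -/
def sgn (P : A × Bool) : ℚ := cond P.2 (-1) 1

/-- The projection of the sign character on the invariant functions. -/
def eVal (P : A × Bool) : ℚ := (∑ Q ∈ D.cls P, sgn Q) / (D.cls P).card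

/-- Its rotation part. -/
def eA : GA ℚ A := mk fun a => D.eVal (a, false)

/-- Its reflection part. -/
def eB : GA ℚ A := mk fun a => D.eVal (a, true)

theorem isInv_eVal : D.IsInv D.eVal := fun P Q hQ => by
  rw [eVal, eVal, D.eq_of_mem hQ]

theorem inv_e : D.Inv D.eA D.eB := D.inv_mk D.isInv_eVal

theorem val_e (P : A × Bool) : val D.eA D.eB P = D.eVal P := by
  obtain ⟨a, _ | _⟩ := P <;> simp [eA, eB]

theorem eVal_zero : D.eVal (0, false) = 1 := by simp [eVal, D.cls_zero, sgn]

theorem eVal_lt_one {P : A × Bool} (hP : P ≠ (0, false)) : D.eVal P < 1 := by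
  obtain ⟨b, hb⟩ := D.hasB P hP
  have hpos : (0 : ℚ) < (D.cls P).card := Nat.cast_pos.2 (Finset.card_pos.2 ⟨P, D.mem_self P⟩)
  rw [eVal, div_lt_one hpos]
  refine (Finset.sum_lt_sum (g := fun _ => (1 : ℚ)) (fun Q _ => ?_) ⟨_, hb, ?_⟩).trans_eq (by simp)
  · obtain ⟨a, _ | _⟩ := Q <;> simp [sgn]
  · simp [sgn]

theorem sum_mul_eVal {φ : A × Bool → ℚ} (hφ : D.IsInv φ) :
    ∑ P, φ P * D.eVal P = ∑ P, φ P * sgn P := by
  have h1 : ∀ P, φ P * D.eVal P = ∑ Q ∈ D.cls P, φ Q * sgn Q / (D.cls Q).card := by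
    intro P
    rw [eVal, ← mul_div_assoc, Finset.mul_sum, Finset.sum_div]
    exact Finset.sum_congr rfl fun Q hQ => by rw [hφ P Q hQ, D.eq_of_mem hQ]
  simp only [h1]
  rw [Finset.sum_comm' (t' := univ) (s' := fun Q => D.cls Q) (fun P Q => by
    simp only [Finset.mem_univ, true_and, and_true]; exact D.mem_comm)]
  refine Finset.sum_congr rfl fun Q _ => ?_
  rw [Finset.sum_const, nsmul_eq_mul, mul_div_assoc',
    mul_div_cancel_left₀ _ (Nat.cast_ne_zero.2 (Finset.card_pos.2 ⟨Q, D.mem_self Q⟩).ne')]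

theorem sum_eVal : ∑ P, D.eVal P = 0 := by
  have := D.sum_mul_eVal (φ := fun _ => 1) (fun _ _ _ => rfl)
  simp only [one_mul] at this
  rw [this, sum_points]
  simp [sgn]

/-- The sign character on pairs. -/
def eps (u v : GA ℚ A) : ℚ := aug u - aug v

/-- The weight of the sign idempotent. -/
def c : ℚ := eps D.eA D.eB

theorem pair_e {u v : GA ℚ A} (h : D.Inv u v) :
    (u * D.eA + v * flip D.eB).coeff 0 = eps u v := by
  have h1 := D.sum_mul_eVal h
  rw [sum_points, sum_points] at h1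
  simp only [val_false, val_true, sgn, cond_false, cond_true, mul_one, mul_neg,
    Finset.sum_neg_distrib] at h1
  rw [AddMonoidAlgebra.coeff_add, Finsupp.add_apply, coeff_mul_flip_zero,
    ← D.flip_of_inv D.inv_e, coeff_mul_flip_zero, eps, aug_apply, aug_apply, sub_eq_add_neg]
  simpa [eA, eB] using h1

theorem c_eq : D.c = ∑ P, D.eVal P ^ 2 := by
  have h := D.sum_mul_eVal D.isInv_eVal
  simp only [sq]
  rw [h, sum_points]
  simp [c, eps, eA, eB, aug_apply, sgn, sub_eq_add_neg]

theorem c_pos : 0 < D.c := by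
  rw [c_eq]
  exact Finset.sum_pos' (fun P _ => sq_nonneg _) ⟨(0, false), mem_univ _, by rw [D.eVal_zero]; norm_num⟩

/-- The sign projection is an eigenvector of every invariant element. -/
theorem eigen {u v : GA ℚ A} (h : D.Inv u v) :
    u * D.eA + v * flip D.eB = eps u v • D.eA ∧ u * D.eB + v * D.eA = eps u v • D.eB := by
  set U := D.eA
  set V := D.eB
  set ε := eps u v with hε
  have hm := D.inv_mul h D.inv_e
  set wA := u * U + v * flip V - ε • U with hwA
  set wB := u * V + v * U - ε • V with hwB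
  have hw : D.Inv wA wB := by
    intro P Q hQ
    have h1 := hm P Q hQ
    have h2 := D.inv_e P Q hQ
    obtain ⟨a, _ | _⟩ := P <;> obtain ⟨b, _ | _⟩ := Q <;>
      simp only [hwA, hwB, val_false, val_true, AddMonoidAlgebra.coeff_sub, Finsupp.sub_apply,
        AddMonoidAlgebra.coeff_smul, Finsupp.smul_apply] at h1 h2 ⊢ <;> rw [h1, h2]
  have hwflip := D.flip_of_inv hw
  have hy := D.pair_e (D.inv_mul h hw)
  have heps : eps (u * wA + v * flip wB) (u * wB + v * wA) = ε * eps wA wB := by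
    simp only [eps, map_add, map_mul, aug_flip, hε]
    ring
  have h0 : (wA * wA + wB * flip wB).coeff 0 = 0 := by
    have hrw : wA * wA + wB * flip wB =
        ((u * wA + v * flip wB) * U + (u * wB + v * wA) * flip V) - ε • (wA * U + wB * flip V) +
          ((u * V * flip wB - flip (u * V * flip wB)) -
            ε • (V * flip wB - flip (V * flip wB))) := by
      simp only [map_mul, flip_flip, D.flip_of_inv h, Algebra.smul_def]
      simp only [hwA, hwB, map_sub, map_add, map_mul, Algebra.smul_def]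
      ring
    rw [hrw]
    simp only [AddMonoidAlgebra.coeff_add, Finsupp.add_apply, AddMonoidAlgebra.coeff_sub,
      Finsupp.sub_apply, AddMonoidAlgebra.coeff_smul, Finsupp.smul_apply, smul_eq_mul,
      coeff_flip, neg_zero, sub_self, mul_zero, add_zero]
    simp only [← Finsupp.add_apply, ← AddMonoidAlgebra.coeff_add]
    rw [hy, heps, D.pair_e hw, sub_self]
  rw [AddMonoidAlgebra.coeff_add, Finsupp.add_apply, coeff_mul_flip_zero] at h0
  conv_lhs at h0 => arg 1; rw [show wA * wA = wA * flip wA by rw [hwflip], coeff_mul_flip_zero]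
  rw [add_eq_zero_iff_of_nonneg (Finset.sum_nonneg fun a _ => mul_self_nonneg _)
    (Finset.sum_nonneg fun a _ => mul_self_nonneg _),
    Finset.sum_eq_zero_iff_of_nonneg (fun a _ => mul_self_nonneg _),
    Finset.sum_eq_zero_iff_of_nonneg (fun a _ => mul_self_nonneg _)] at h0
  have hA : wA = 0 := ga_ext fun a => by simpa using h0.1 a (mem_univ _)
  have hB : wB = 0 := ga_ext fun a => by simpa using h0.2 a (mem_univ _)
  exact ⟨sub_eq_zero.1 hA, sub_eq_zero.1 hB⟩

theorem cubic : D.eA * (D.eA - D.c • 1) * ((2 : ℚ) • D.eA - D.c • 1) = 0 := by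
  obtain ⟨h1, h2⟩ := D.eigen D.inv_e
  rw [← c] at h1 h2
  have h3 : ((2 : ℚ) • D.eA - D.c • 1) * D.eB = 0 := by
    rw [sub_mul, smul_mul_assoc, smul_mul_assoc, one_mul, two_smul, sub_eq_zero, ← h2]
    ring
  have h4 : D.eA * (D.eA - D.c • 1) = - (D.eB * flip D.eB) := by
    rw [mul_sub, mul_smul_comm, mul_one, ← h1]; ring
  rw [h4, mul_comm, mul_neg, ← mul_assoc, h3, zero_mul, neg_zero]

/-- The integer description of the sign projection. -/
theorem exists_f [IsAddCyclic A] :
    ∃ f : A → ℤ, SameGen f ∧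
      (∀ a, (f a : ℚ) * D.c = 2 * Fintype.card A * D.eVal (a, false)) ∧
      ∀ p : ℕ, p.Prime → ∀ v : ℕ, p ^ v ∣ Fintype.card A → ∀ y z : A, addOrderOf z = p →
        ¬ p ∣ addOrderOf y → ((p ^ v : ℕ) : ℤ) ∣ f y - f (y + z) := by
  have hc := D.c_pos.ne'
  set q : GA ℚ A := (2 / D.c) • D.eA with hq
  have hU : D.eA = (D.c / 2) • q := by
    rw [hq, smul_smul, show D.c / 2 * (2 / D.c) = 1 by field_simp, one_smul]
  have hcub : q * (q - 1) * (q - (2 : ℚ) • 1) = 0 := by
    have h := D.cubic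
    rw [hU] at h
    have e1 : (D.c / 2) • q - D.c • (1 : GA ℚ A) = (D.c / 2) • (q - (2 : ℚ) • 1) := by
      rw [smul_sub, smul_smul (D.c / 2) (2 : ℚ), show D.c / 2 * 2 = D.c by ring]
    have e2 : (2 : ℚ) • (D.c / 2) • q - D.c • (1 : GA ℚ A) = D.c • (q - 1) := by
      rw [smul_sub, smul_smul (2 : ℚ) (D.c / 2), show 2 * (D.c / 2) = D.c by ring]
    rw [e1, e2, smul_mul_smul_comm, smul_mul_smul_comm, smul_eq_zero] at h
    rcases h with h | h
    · exact absurd h (by simp [hc])
    · rw [← h]; ring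
  -- clear denominators
  set N : ℕ := ∏ a, (q.coeff a).den with hN
  have hN0 : (N : ℚ) ≠ 0 := Nat.cast_ne_zero.2 (Finset.prod_ne_zero_iff.2 fun a _ => Rat.den_nz _)
  have hWint : ∀ a, ∃ w : ℤ, (w : ℚ) = (N : ℚ) * q.coeff a := by
    intro a
    obtain ⟨k, hk⟩ := Finset.dvd_prod_of_mem (fun a => (q.coeff a).den) (mem_univ a)
    refine ⟨(k : ℤ) * (q.coeff a).num, ?_⟩
    rw [hN, hk, Int.cast_mul, Int.cast_natCast, Nat.cast_mul, ← Rat.mul_den_eq_num]
    ring
  choose w hw using hWint
  set W : GA ℤ A := mk w with hWdef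
  have hWq : cmap (Int.castRingHom ℚ) W = (N : ℚ) • q := ga_ext fun a => by simp [W, hw]
  have hWcub : W * (W - (N : ℤ) • 1) * (W - (2 * (N : ℤ)) • 1) = 0 := by
    refine ga_ext fun a => Int.cast_injective (α := ℚ) ?_
    have : cmap (Int.castRingHom ℚ) (W * (W - (N : ℤ) • 1) * (W - (2 * (N : ℤ)) • 1)) = 0 := by
      rw [map_mul, map_mul, map_sub, map_sub, map_zsmul, map_zsmul, map_one, hWq,
        ← Int.cast_smul_eq_zsmul ℚ (N : ℤ), ← Int.cast_smul_eq_zsmul ℚ (2 * (N : ℤ))]
      push_cast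
      rw [← smul_sub, show (2 * (N : ℚ)) • (1 : GA ℚ A) = (N : ℚ) • (2 : ℚ) • 1 by
        rw [smul_smul, mul_comm], ← smul_sub, smul_mul_smul_comm, smul_mul_smul_comm, hcub, smul_zero]
    have h2 : (cmap (Int.castRingHom ℚ) (W * (W - (N : ℤ) • 1) * (W - (2 * (N : ℤ)) • 1))).coeff a =
        (0 : GA ℚ A).coeff a := by rw [this]
    rw [coeff_cmap] at h2
    refine Eq.trans h2 ?_
    simp
  have hNZ : (N : ℤ) ≠ 0 := by exact_mod_cast hN0
  have hqgen : SameGen fun a => q.coeff a := sameGen_of_dilate fun k a hk => by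
    have h := dilate_fixed hNZ hWcub hk a
    simp only [W, coeff_mk] at h
    exact mul_left_cancel₀ hN0 (by rw [← hw, ← hw, h])
  have hev : ∀ L, ∃ n : ℤ, ev L q = n := by
    intro L
    have h := congrArg (ev L) hcub
    simp only [map_mul, map_sub, map_one, map_smul, map_zero, Rat.smul_def, Rat.cast_ofNat, mul_one,
      mul_eq_zero, sub_eq_zero] at h
    rcases h with (h | h) | h
    · exact ⟨0, by simp [h]⟩
    · exact ⟨1, by simp [h]⟩
    · exact ⟨2, by simp [h]⟩
  obtain ⟨f, hf, hcong⟩ := int_congr hqgen hev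
  refine ⟨f, fun a b hab => Int.cast_injective (α := ℚ) (by rw [hf, hf]; exact congrArg _ (hqgen a b hab)),
    fun a => ?_, hcong⟩
  rw [hf, hq, AddMonoidAlgebra.coeff_smul, Finsupp.smul_apply, smul_eq_mul, eA, coeff_mk]
  field_simp

end DData

end

end CfsgLib.Char.DihedralB
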