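import Cfsg.Agent.Lib.Char.DihedralB.KeyTwo

/-!
# The sign projection is constant, so the S-ring is trivial
-/

set_option autoImplicit false
set_option linter.all false

namespace CfsgLib.Char.DihedralB

open Finset

noncomputable section

variable {A : Type*} [AddCommGroup A] [Fintype A] [DecidableEq A] [IsAddCyclic A]

namespace DData

variable (D : DData A)

theorem transitive_of_eVal (hconst : ∀ P, P ≠ (0, false) →
      D.eVal P * (2 * Fintype.card A - 1 : ℚ) = -1) :
    ∀ P, P ≠ (0, false) → ∀ Q, Q ≠ (0, false) → Q ∈ D.cls P := by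
  intro P hP Q hQ
  classical
  set C := D.cls P with hC
  set N : ℤ := 2 * Fintype.card A - 1 with hN
  have hcard : (0 : ℚ) < C.card := Nat.cast_pos.2 (Finset.card_pos.2 ⟨P, D.mem_self P⟩)
  have hsub : C ⊆ univ.erase (0, false) := fun R hR =>
    Finset.mem_erase.2 ⟨(D.ne_zero_iff hR).2 hP, mem_univ _⟩
  have h1 := hconst P hP
  rw [eVal, div_mul_eq_mul_div, div_eq_iff hcard.ne', ← hC] at h1
  obtain ⟨S, hS⟩ : ∃ S : ℤ, (S : ℚ) = ∑ R ∈ C, sgn R :=
    ⟨∑ R ∈ C, cond R.2 (-1) 1, by
      rw [Int.cast_sum]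
      refine Finset.sum_congr rfl fun R _ => ?_
      obtain ⟨a, _ | _⟩ := R <;> simp [sgn]⟩
  rw [← hS] at h1
  have h2 : S * N = -(C.card : ℤ) := Int.cast_injective (α := ℚ) (by rw [hN]; push_cast; linarith)
  have hle := Finset.card_le_card hsub
  have huniv : ((univ.erase ((0, false) : A × Bool)).card : ℤ) = N := by
    have : 0 < Fintype.card A := Fintype.card_pos
    rw [Finset.card_erase_of_mem (mem_univ _), Finset.card_univ, Fintype.card_prod, Fintype.card_bool, hN]
    omega
  have hdvd : N ∣ (C.card : ℤ) := ⟨-S, by linarith⟩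
  have hge := Int.le_of_dvd (by exact_mod_cast hcard) hdvd
  have heq := Finset.eq_of_subset_of_card_le hsub (by omega)
  rw [heq]
  exact Finset.mem_erase.2 ⟨hQ, mem_univ _⟩

theorem transitive (hm : 2 ≤ Fintype.card A) :
    ∀ P, P ≠ (0, false) → ∀ Q, Q ≠ (0, false) → Q ∈ D.cls P := by
  classical
  obtain ⟨f, hfgen, hf, hcong⟩ := D.exists_f
  have hc := D.c_pos
  set m : ℕ := Fintype.card A with hmdef
  have hmQ : (0 : ℚ) < m := Nat.cast_pos.2 Fintype.card_pos
  have hmZ : (2 : ℤ) ≤ m := by exact_mod_cast hm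
  set f0 : ℤ := f 0 with hf0def
  have hf0 : (f0 : ℚ) * D.c = 2 * m := by rw [hf0def, hf 0, D.eVal_zero, mul_one]
  have he : ∀ a, D.eVal (a, false) * f0 = f a := fun a => by
    apply mul_right_cancel₀ hc.ne'
    rw [mul_assoc, hf0, hf a]; ring
  -- sums
  have hsum2 : (∑ a, D.eVal (a, false)) - ∑ a, D.eVal (a, true) = D.c := by
    simp [c, eps, eA, eB, aug_apply]
  have hsum0 := D.sum_eVal
  rw [sum_points] at hsum0
  have hsumA : 2 * ∑ a, D.eVal (a, false) = D.c := by linarith
  have hsumF : ∑ a, f a = (m : ℤ) := Int.cast_injective (α := ℚ) (by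
    apply mul_right_cancel₀ hc.ne'
    rw [Int.cast_sum, Finset.sum_mul]
    simp only [hf]
    rw [← Finset.mul_sum]
    push_cast
    linear_combination (m : ℚ) * hsumA)
  have hsq : (∑ a, f a ^ 2 : ℤ) + m ≤ 2 * m * f0 := by
    have h1 := D.c_eq
    rw [sum_points] at h1
    have h2 := Finset.sum_mul_sq_le_sq_mul_sq univ (fun _ : A => (1 : ℚ)) (fun a => D.eVal (a, true))
    simp only [one_mul, one_pow, Finset.sum_const, Finset.card_univ, nsmul_eq_mul, mul_one,
      ← hmdef] at h2
    have h3 : ∑ a, D.eVal (a, true) = -D.c / 2 := by linarith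
    rw [h3] at h2
    have h4 : ((∑ a, f a ^ 2 : ℤ) : ℚ) * D.c ^ 2 = 4 * m ^ 2 * ∑ a, D.eVal (a, false) ^ 2 := by
      rw [Int.cast_sum, Finset.sum_mul, Finset.mul_sum]
      refine Finset.sum_congr rfl fun a _ => ?_
      rw [Int.cast_pow, ← mul_pow, hf a]; ring
    have h5 : (((∑ a, f a ^ 2 : ℤ) + m : ℤ) : ℚ) * D.c ^ 2 ≤ ((2 * m * f0 : ℤ) : ℚ) * D.c ^ 2 := by
      push_cast at h4 ⊢
      have e1 : (2 : ℚ) * m * f0 * D.c ^ 2 = 4 * m ^ 2 * D.c := by linear_combination 2 * m * D.c * hf0
      rw [e1, add_mul, h4]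
      nlinarith
    exact_mod_cast le_of_mul_le_mul_right h5 (by positivity)
  -- the values agree on whole classes
  have hval : ∀ P, P ≠ (0, false) → ∃ a, a ≠ 0 ∧ D.eVal P * f0 = f a := by
    intro P hP
    obtain ⟨a, ha⟩ := D.hasA P hP
    refine ⟨a, fun e => (D.ne_zero_iff ha).2 hP (by rw [e]), ?_⟩
    rw [← D.isInv_eVal P _ ha, he]
  have hval' : ∀ P, ∃ k : ℤ, D.eVal P * f0 = k := by
    intro P
    by_cases hP : P = (0, false)
    · exact ⟨f0, by rw [hP, D.eVal_zero, one_mul]⟩
    · obtain ⟨a, -, ha⟩ := hval P hP; exact ⟨_, ha⟩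
  choose F hF using hval'
  have hFinv : ∀ P, ∀ Q ∈ D.cls P, F Q = F P := fun P Q hQ =>
    Int.cast_injective (α := ℚ) (by rw [← hF, ← hF, D.isInv_eVal P Q hQ])
  have hFA : ∀ a, F (a, false) = f a := fun a => Int.cast_injective (α := ℚ) (by rw [← hF, he])
  -- all values are congruent modulo `m`
  have hmod : ∀ a, (m : ℤ) ∣ f a - f0 := by
    suffices hs : ∀ p : ℕ, p.Prime → ∀ s : ℕ, p ^ s ∣ m → ∀ a, ((p ^ s : ℕ) : ℤ) ∣ f a - f0 by
      intro a
      rw [Int.natCast_dvd]
      exact (Nat.dvd_iff_prime_pow_dvd_dvd _ _).2 fun p k hp hk => Int.natCast_dvd.1 (hs p hp k hk a)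
    intro p hp s
    haveI := Fact.mk hp
    induction s with
    | zero => intro _ a; simp
    | succ s ih =>
      intro hps
      have hdvd : p ∣ m := (dvd_pow_self p s.succ_ne_zero).trans hps
      obtain ⟨z, hz⟩ := exists_prime_addOrderOf_dvd_card (G := A) p hdvd
      set φ : A × Bool → ℤ := fun P =>
        if P ≠ (0, false) ∧ ¬ ((p ^ (s + 1) : ℕ) : ℤ) ∣ F P - f0 then 1 else 0 with hφ
      have hinv : D.IsInv φ := fun P Q hQ => by simp only [hφ, hFinv P Q hQ, D.ne_zero_iff hQ]
      set X := mk fun a => φ (a, false) with hX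
      set Y := mk fun a => φ (a, true) with hY
      have hvalXY : ∀ P, val X Y P = φ P := by rintro ⟨a, _ | _⟩ <;> simp [hX, hY]
      have hXa : ∀ a, X.coeff a = if ((p ^ (s + 1) : ℕ) : ℤ) ∣ f a - f0 then 0 else 1 := by
        intro a
        simp only [hX, coeff_mk, hφ, hFA]
        by_cases ha : a = 0
        · subst ha; simp [hf0def]
        · by_cases hd : ((p ^ (s + 1) : ℕ) : ℤ) ∣ f a - f0 <;> simp [ha, hd]
      have hgen : SameGen fun a => X.coeff a := fun a b hab => by
        simp only [hXa, hfgen a b hab]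
      have hshift : ∀ y, ¬ p ∣ addOrderOf y → X.coeff (y + z) = X.coeff y := by
        intro y hy
        have h1 := hcong p hp (s + 1) hps y z hz hy
        have : ((p ^ (s + 1) : ℕ) : ℤ) ∣ f (y + z) - f0 ↔ ((p ^ (s + 1) : ℕ) : ℤ) ∣ f y - f0 := by
          constructor <;> intro h2
          · simpa using dvd_add h2 h1
          · simpa using dvd_sub h2 h1
        simp only [hXa, this]
      have hX0 : X.coeff 0 = 0 := by rw [hXa]; simp [hf0def]
      have hXz : ∀ a ∈ AddSubgroup.zmultiples z, X.coeff a = 0 := by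
        intro a ha
        by_cases ha0 : a = 0
        · rw [ha0, hX0]
        · have hord : addOrderOf a = p := addOrderOf_eq_prime (by rw [← hz]; exact mem_zmultiples_iff'.1 ha) ha0
          have := hgen a z (AddSubgroup.eq_of_le_of_card_ge (AddSubgroup.zmultiples_le.2 ha)
            (by rw [Nat.card_zmultiples, Nat.card_zmultiples, hord, hz]))
          simp only at this
          rw [this, ← zero_add z, hshift 0 (by simp [hp.ne_one]), hX0]
      have hper : ∀ a, X.coeff (a + z) = X.coeff a := fun a => by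
        by_cases ha : a ∈ AddSubgroup.zmultiples z
        · rw [hXz a ha, hXz _ (add_mem ha (AddSubgroup.mem_zmultiples z))]
        · exact periodic_of_sameGen hgen hp hz (fun y _ hy => hshift y hy) ha
      intro a
      have hall := D.key (D.inv_mk hinv) (fun P => by
        rw [hvalXY, hφ]; simp only; split_ifs <;> simp) hz hper hX0 hgen (a, false)
      rw [val_false, hXa] at hall
      by_contra hno
      rw [if_neg hno] at hall
      exact one_ne_zero hall
  choose k hk using hmod
  set d := f0 - m with hd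
  have hf0m : f0 * (2 * m - f0) ≥ m := by
    have : f0 ^ 2 ≤ ∑ a, f a ^ 2 :=
      Finset.single_le_sum (f := fun a => f a ^ 2) (fun a _ => sq_nonneg _) (mem_univ (0 : A))
    nlinarith
  have hf0pos : 0 < f0 := by
    have : (0 : ℚ) < f0 := (pos_iff_pos_of_mul_pos (by rw [hf0]; positivity)).2 hc
    exact_mod_cast this
  have hf0le : f0 ≤ 2 * m - 1 := by nlinarith
  have hk0 : k 0 = 0 := by
    have := hk 0
    rw [← hf0def, sub_self] at this
    exact (mul_eq_zero.1 this.symm).resolve_left (by omega)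
  have hksum : ∑ a, k a = 1 - f0 := by
    have h1 : (m : ℤ) * ∑ a, k a = m - m * f0 := by
      rw [Finset.mul_sum, ← Finset.sum_congr rfl fun a _ => hk a, Finset.sum_sub_distrib, hsumF,
        Finset.sum_const, Finset.card_univ, nsmul_eq_mul, ← hmdef]
    have h2 : (m : ℤ) * ((∑ a, k a) - (1 - f0)) = 0 := by linarith
    have h3 := (mul_eq_zero.1 h2).resolve_left (by omega)
    omega
  rcases Classical.em (∀ a, a ≠ 0 → f a = 1) with hone | hone
  · exfalso
    have h1 : (m : ℤ) = f0 + (m - 1) := by
      conv_lhs => rw [← hsumF]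
      rw [← Finset.add_sum_erase univ f (mem_univ (0 : A)), ← hf0def,
        Finset.sum_congr rfl fun a ha => hone a (Finset.mem_erase.1 ha).1, Finset.sum_const,
        Finset.card_erase_of_mem (mem_univ _), Finset.card_univ, nsmul_eq_mul, mul_one]
      omega
    have hall : ∀ P, D.eVal P = 1 := by
      intro P
      by_cases hP : P = (0, false)
      · rw [hP, D.eVal_zero]
      · obtain ⟨a, ha, ha'⟩ := hval P hP
        rw [hone a ha, show f0 = 1 by omega] at ha'
        simpa using ha'
    have := D.sum_eVal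
    simp only [hall, Finset.sum_const, Finset.card_univ, nsmul_eq_mul, mul_one] at this
    simp at this
  rcases Classical.em (∀ a, a ≠ 0 → f a = -1) with hneg | hneg
  · have hf0v : f0 = 2 * m - 1 := by
      have h1 : (m : ℤ) = f0 - (m - 1) := by
        conv_lhs => rw [← hsumF]
        rw [← Finset.add_sum_erase univ f (mem_univ (0 : A)), ← hf0def,
          Finset.sum_congr rfl fun a ha => hneg a (Finset.mem_erase.1 ha).1, Finset.sum_const,
          Finset.card_erase_of_mem (mem_univ _), Finset.card_univ, nsmul_eq_mul]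
        omega
      omega
    refine D.transitive_of_eVal fun P hP => ?_
    obtain ⟨a, ha, ha'⟩ := hval P hP
    rw [hneg a ha, hf0v] at ha'
    push_cast at ha'
    exact ha'
  exfalso
  -- every other value is close to `0`
  have hfa : ∀ a, f a = d + m * (k a + 1) := fun a => by
    have := hk a; rw [hd]; linarith
  set j := fun a => k a + 1 with hj
  have hcardE : ((univ.erase (0 : A)).card : ℤ) = m - 1 := by
    rw [Finset.card_erase_of_mem (mem_univ _), Finset.card_univ, ← hmdef]; omega
  have hjsum : ∑ a ∈ univ.erase (0 : A), j a = -d := by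
    rw [Finset.sum_add_distrib, Finset.sum_const, nsmul_eq_mul, mul_one, hcardE,
      Finset.sum_erase _ hk0, hksum, hd]
    ring
  set J2 := ∑ a ∈ univ.erase (0 : A), j a ^ 2 with hJ2
  have hf2 : ∑ a ∈ univ.erase (0 : A), f a ^ 2 = (m - 1) * d ^ 2 + 2 * m * d * -d + m ^ 2 * J2 := by
    rw [← hjsum, hJ2, ← hcardE, Finset.mul_sum, Finset.mul_sum, ← nsmul_eq_mul, ← Finset.sum_const,
      ← Finset.sum_add_distrib, ← Finset.sum_add_distrib]
    refine Finset.sum_congr rfl fun a _ => ?_
    rw [hfa a]
    ring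
  have hmain : (m : ℤ) * J2 ≤ m - 1 + d ^ 2 := by
    rw [← Finset.add_sum_erase univ (fun a => f a ^ 2) (mem_univ (0 : A)), hf2, ← hf0def] at hsq
    rw [show f0 = m + d by omega] at hsq
    have : (m : ℤ) * (m * J2) ≤ m * (m - 1 + d ^ 2) := by linarith
    exact le_of_mul_le_mul_left this (by omega)
  have hJd : |d| ≤ J2 := by
    calc |d| = |∑ a ∈ univ.erase (0 : A), j a| := by rw [hjsum, abs_neg]
      _ ≤ ∑ a ∈ univ.erase (0 : A), |j a| := Finset.abs_sum_le_sum_abs _ _
      _ ≤ J2 := Finset.sum_le_sum fun a _ => (Int.le_self_sq |j a|).trans_eq (sq_abs _)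
  have hS : ∑ a ∈ univ.erase (0 : A), f a = m - f0 := by
    rw [← hsumF, ← Finset.add_sum_erase univ f (mem_univ (0 : A)), ← hf0def]; ring
  have hS2 : ∑ a ∈ univ.erase (0 : A), f a ^ 2 ≤ 2 * m * f0 - m - f0 ^ 2 := by
    rw [← Finset.add_sum_erase univ (fun a => f a ^ 2) (mem_univ (0 : A)), ← hf0def] at hsq
    linarith
  -- the extreme values
  have hend : ∀ e : ℤ, e = 1 ∨ e = -1 → f0 = m - e * (m - 1) → ¬ ¬ ∀ a, a ≠ 0 → f a = e := by
    intro e he hfe hno
    have h1 : ∑ a ∈ univ.erase (0 : A), (f a - e) ^ 2 ≤ 0 := by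
      simp only [sub_sq, Finset.sum_add_distrib, Finset.sum_sub_distrib, mul_assoc, ← Finset.mul_sum,
        ← Finset.sum_mul, hS, Finset.sum_const, nsmul_eq_mul, hcardE]
      rw [hfe] at hS2 ⊢
      rcases he with rfl | rfl <;> linarith
    refine hno fun a ha => ?_
    have h2 := (Finset.sum_eq_zero_iff_of_nonneg fun a _ => sq_nonneg (f a - e)).1
      (le_antisymm h1 (Finset.sum_nonneg fun a _ => sq_nonneg _)) a (Finset.mem_erase.2 ⟨ha, mem_univ _⟩)
    exact sub_eq_zero.1 (sq_eq_zero_iff.1 h2)
  have hne1 : d ≠ -(m - 1) := fun h => hend 1 (Or.inl rfl) (by omega) hone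
  have hne2 : d ≠ m - 1 := fun h => hend (-1) (Or.inr rfl) (by omega) hneg
  have hsmall : |d| ≤ 1 := by
    by_contra hgt
    push Not at hgt
    have h1 : (m : ℤ) * |d| ≤ m - 1 + |d| ^ 2 := by
      rw [sq_abs]; exact le_trans (mul_le_mul_of_nonneg_left hJd (by omega)) hmain
    have h2 : |d| < m - 1 := by
      rcases abs_cases d with h | h <;> omega
    nlinarith
  have hJ1 : J2 ≤ 1 := by
    have : d ^ 2 ≤ 1 := by rw [← sq_abs]; nlinarith [abs_nonneg d]
    nlinarith
  have huniq : ∀ a b, a ≠ 0 → b ≠ 0 → j a ≠ 0 → j b ≠ 0 → a = b := by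
    intro a b ha hb hja hjb
    by_contra hab
    have h1 : j a ^ 2 + j b ^ 2 ≤ J2 := by
      rw [← Finset.sum_pair (f := fun a => j a ^ 2) hab]
      refine Finset.sum_le_sum_of_subset_of_nonneg ?_ fun a _ _ => sq_nonneg _
      intro c hc
      simp only [Finset.mem_insert, Finset.mem_singleton] at hc
      rcases hc with rfl | rfl <;> simp [ha, hb]
    have := pow_two_pos_of_ne_zero hja
    have := pow_two_pos_of_ne_zero hjb
    omega
  have hfd : ∀ a, a ≠ 0 → (f a = d ↔ j a = 0) := fun a _ => by
    rw [hfa a]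
    constructor
    · intro h
      have : (m : ℤ) * j a = 0 := by linarith
      exact (mul_eq_zero.1 this).resolve_left (by omega)
    · intro h
      simp only [hj] at h
      rw [h, mul_zero, add_zero]
  by_cases hd0 : d = 0
  · have hj0 : ∀ a, a ≠ 0 → j a = 0 := by
      intro a ha
      by_contra hne
      rw [Finset.sum_eq_single_of_mem a (Finset.mem_erase.2 ⟨ha, mem_univ _⟩) fun b hb hba =>
        by_contra fun hbne => hba (huniq b a (Finset.mem_erase.1 hb).1 ha hbne hne), hd0] at hjsum
      exact hne (by simpa using hjsum)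
    have hall : ∀ P, P ≠ (0, false) → D.eVal P = 0 := by
      intro P hP
      obtain ⟨a, ha, ha'⟩ := hval P hP
      rw [(hfd a ha).2 (hj0 a ha), hd0, Int.cast_zero, mul_eq_zero] at ha'
      exact ha'.resolve_right (by exact_mod_cast hf0pos.ne')
    have := D.sum_eVal
    rw [Finset.sum_eq_single (0, false) (fun P _ hP => hall P hP) (by simp), D.eVal_zero] at this
    exact one_ne_zero this
  · obtain ⟨z, hz0, hjz⟩ : ∃ z, z ≠ 0 ∧ j z ≠ 0 := by
      by_contra hno
      push Not at hno
      rw [Finset.sum_eq_zero fun a ha => hno a (Finset.mem_erase.1 ha).1] at hjsum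
      omega
    have hneg' : f (-z) = f z := hfgen _ _ AddSubgroup.zmultiples_neg
    have hzz : -z = z := by
      refine huniq _ _ (neg_ne_zero.2 hz0) hz0 (fun h => hjz ?_) hjz
      exact (hfd z hz0).1 (hneg' ▸ (hfd _ (neg_ne_zero.2 hz0)).2 h)
    have hord : addOrderOf z = 2 := addOrderOf_eq_prime (by rw [two_nsmul]; exact eq_neg_iff_add_eq_zero.1 hzz.symm) hz0
    haveI : Fact (Nat.Prime 2) := ⟨Nat.prime_two⟩
    have hZ : ∀ a, a ∈ AddSubgroup.zmultiples z ↔ a = 0 ∨ a = z := by
      intro a
      constructor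
      · intro ha
        by_contra hno
        push Not at hno
        have hle := IsAddCyclic.card_nsmul_eq_zero_le (α := A) two_pos
        have hsub : ({0, z, a} : Finset A) ⊆ univ.filter fun x : A => 2 • x = 0 := by
          intro c hc
          simp only [Finset.mem_insert, Finset.mem_singleton] at hc
          refine Finset.mem_filter.2 ⟨mem_univ _, ?_⟩
          rcases hc with rfl | rfl | rfl
          · simp
          · rw [← hord]; exact addOrderOf_nsmul_eq_zero _
          · rw [← hord]; exact mem_zmultiples_iff'.1 ha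
        have := (Finset.card_le_card hsub).trans hle
        rw [Finset.card_insert_of_notMem (by simp [Ne.symm hz0, Ne.symm hno.1]),
          Finset.card_pair (Ne.symm hno.2)] at this
        omega
      · rintro (rfl | rfl)
        · exact zero_mem _
        · exact AddSubgroup.mem_zmultiples _
    set φ : A × Bool → ℤ := fun P => if P ≠ (0, false) ∧ F P = d then 1 else 0 with hφ
    have hinv : D.IsInv φ := fun P Q hQ => by simp only [hφ, hFinv P Q hQ, D.ne_zero_iff hQ]
    set X := mk fun a => φ (a, false) with hX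
    set Y := mk fun a => φ (a, true) with hY
    have hXa : ∀ a, X.coeff a = if a ∈ AddSubgroup.zmultiples z then 0 else 1 := by
      intro a
      simp only [hX, coeff_mk, hφ, hFA]
      by_cases ha : a ∈ AddSubgroup.zmultiples z
      · rw [if_pos ha]
        rcases (hZ a).1 ha with rfl | rfl
        · simp
        · rw [if_neg fun h => hjz ((hfd _ hz0).1 h.2)]
      · rw [if_neg ha]
        have ha0 : a ≠ 0 := fun e => ha (e ▸ zero_mem _)
        rw [if_pos ⟨by simpa using ha0, (hfd a ha0).2 (by_contra fun h => ha ((hZ a).2 (Or.inr (huniq a z ha0 hz0 h hjz))))⟩]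
    have hper : ∀ a, X.coeff (a + z) = X.coeff a := fun a => by
      rw [hXa, hXa]
      simp only [AddSubgroup.add_mem_cancel_right _ (AddSubgroup.mem_zmultiples z)]
    have hgen : SameGen fun a => X.coeff a := fun a b hab => by
      have : a ∈ AddSubgroup.zmultiples z ↔ b ∈ AddSubgroup.zmultiples z := by
        rw [← AddSubgroup.zmultiples_le, ← AddSubgroup.zmultiples_le (g := b), hab]
      simp only [hXa, this]
    have hall := D.key (D.inv_mk hinv) (fun P => by
      have : val X Y P = φ P := by obtain ⟨a, _ | _⟩ := P <;> simp [hX, hY]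
      rw [this, hφ]; simp only; split_ifs <;> simp) hord hper (by rw [hXa]; simp) hgen
    obtain ⟨a, ha⟩ : ∃ a : A, a ∉ AddSubgroup.zmultiples z := by
      by_contra hno
      push Not at hno
      have : univ ⊆ ({0, z} : Finset A) := fun a _ => by simpa using (hZ a).1 (hno a)
      have := (Finset.card_le_card this).trans Finset.card_le_two
      rw [Finset.card_univ, ← hmdef] at this
      rcases abs_cases d with h | h <;> omega
    have := hall (a, false)
    rw [val_false, hXa, if_neg ha] at this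
    exact one_ne_zero this

end DData

end

end CfsgLib.Char.DihedralB
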