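import Cfsg.Agent.Lib.Char.DihedralB.Levels
import Mathlib.Data.Nat.Factorization.Basic
import Mathlib.Data.ZMod.Basic

/-!
# No invariant set has a periodic rotation part
-/

set_option autoImplicit false
set_option linter.all false

namespace CfsgLib.Char.DihedralB

open Finset

noncomputable section

theorem no_odd {p x y m : ℤ} (hp : 3 ≤ p) (hp4 : p ≠ 4) (hpm : p ∣ m) (hpx : p ∣ x) (hx : p ≤ x) (hx' : p ≤ m - x)
    (hy : 0 < y) (hym : y ≤ m) (hn : (x - y) ^ 2 ≠ 0)
    (h1 : m * (x - y) ^ 2 = x * (m - y) + y * (m - x))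
    (h2 : p * (x * (m - x)) ≤ (x - y) ^ 2 * (m - p)) : False := by
  have bound : ∀ a b : ℤ, p ∣ a → p ≤ a → p ≤ m - a → 0 ≤ b → b ≤ m →
      m * (a - b) ^ 2 = a * (m - b) + b * (m - a) → 2 * b ≤ p * a := by
    intro a b hpa ha ha' hb hbm he
    by_contra hlt
    push Not at hlt
    set t := b - a with ht
    have e1 : m * (a + b - t ^ 2) = 2 * a * b := by rw [ht]; nlinarith
    have hab : 0 ≤ a * b := mul_nonneg (by omega) hb
    have ht2 : t ^ 2 ≤ a + b := by
      by_contra hgt
      push Not at hgt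
      nlinarith
    have hb' : b = a + t := by omega
    rcases (show p = 3 ∨ 5 ≤ p by omega) with h3 | h5
    · subst h3
      have h4 : t ≤ 4 := by nlinarith
      have : a ≤ 7 := by omega
      obtain ⟨k, hk⟩ := hpa
      have hk1 : 1 ≤ k := by omega
      have hk2 : k ≤ 2 := by omega
      have ht0 : 0 ≤ t := by omega
      subst hk
      interval_cases k <;> interval_cases t <;> (subst hb'; omega)
    · have h5a : 5 * a ≤ p * a := Int.mul_le_mul_of_nonneg_right h5 (by omega)
      nlinarith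
  have b1 := bound x y hpx hx hx' hy.le hym h1
  have b2 : 2 * (m - y) ≤ p * (m - x) :=
    bound (m - x) (m - y) (dvd_sub hpm hpx) hx' (by omega) (by omega) (by omega) (by linear_combination h1)
  have hn' : 0 < (x - y) ^ 2 := lt_of_le_of_ne (sq_nonneg _) (Ne.symm hn)
  nlinarith [mul_le_mul_of_nonneg_left b1 (show (0 : ℤ) ≤ m - x by omega),
    mul_le_mul_of_nonneg_left b2 (show (0 : ℤ) ≤ x by omega), mul_pos (show (0 : ℤ) < p by omega) hn']

theorem no_eight (b0 b1 b2 b3 b4 b5 b6 b7 : Bool) :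
    ¬ (b1.toNat * b0.toNat + b2.toNat * b1.toNat + b3.toNat * b2.toNat + b4.toNat * b3.toNat +
          b5.toNat * b4.toNat + b6.toNat * b5.toNat + b7.toNat * b6.toNat + b0.toNat * b7.toNat = 2 ∧
      b2.toNat * b0.toNat + b3.toNat * b1.toNat + b4.toNat * b2.toNat + b5.toNat * b3.toNat +
          b6.toNat * b4.toNat + b7.toNat * b5.toNat + b0.toNat * b6.toNat + b1.toNat * b7.toNat = 2 ∧
      b4.toNat * b0.toNat + b5.toNat * b1.toNat + b6.toNat * b2.toNat + b7.toNat * b3.toNat = 0 ∧
      b0.toNat + b1.toNat + b2.toNat + b3.toNat + b4.toNat + b5.toNat + b6.toNat + b7.toNat = 4) := by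
  revert b0 b1 b2 b3 b4 b5 b6 b7
  decide

variable {A : Type*} [AddCommGroup A] [Fintype A] [DecidableEq A] [IsAddCyclic A]

namespace DData

variable (D : DData A)

/-- The parameters of an invariant set with periodic rotation part avoiding the period. -/
theorem params {X Y : GA ℤ A} (h : D.Inv X Y) (h01 : ∀ P, val X Y P = 0 ∨ val X Y P = 1)
    {p : ℕ} [Fact p.Prime] {z : A} (hz : addOrderOf z = p)
    (hper : ∀ a, X.coeff (a + z) = X.coeff a) (h0 : X.coeff 0 = 0) {x y m : ℤ}
    (hx : x = aug X) (hy : y = aug Y) (hm : m = Fintype.card A) :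
    (∀ P, val X Y P = 0) ∨
      ((p : ℤ) ∣ x ∧ (p : ℤ) ≤ x ∧ (p : ℤ) ≤ m - x ∧ 0 < y ∧ y ≤ m ∧ x - y ≠ 0 ∧
        m * (x - y) ^ 2 = x * (m - y) + y * (m - x) ∧
        (p : ℤ) * (x * (m - x)) ≤ (x - y) ^ 2 * (m - p) ∧
        (cmap (Int.castRingHom ℚ) X - ((x : ℚ) / m) • tot) ^ 3 =
          (((x - y) ^ 2 : ℤ) : ℚ) • (cmap (Int.castRingHom ℚ) X - ((x : ℚ) / m) • tot) ∧
        ∃ lam : ℤ, m * lam = 2 * x * y ∧ lam = x + y - (x - y) ^ 2 ∧
          ∀ a, a ≠ 0 → (X * X + Y * flip Y).coeff a = lam) := by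
  classical
  have hp := (Fact.out : p.Prime)
  have hX01 : ∀ a, X.coeff a = 0 ∨ X.coeff a = 1 := fun a => h01 (a, false)
  have hY01 : ∀ a, Y.coeff a = 0 ∨ Y.coeff a = 1 := fun a => h01 (a, true)
  refine Classical.or_iff_not_imp_left.2 fun hne => ?_
  push Not at hne
  obtain ⟨P, hP⟩ := hne
  have hP0 : P ≠ (0, false) := fun e => hP (by rw [e, val_false, h0])
  have hXnn : ∀ a, 0 ≤ X.coeff a := fun a => by rcases hX01 a with e | e <;> omega
  have hYnn : ∀ a, 0 ≤ Y.coeff a := fun a => by rcases hY01 a with e | e <;> omega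
  obtain ⟨a₁, ha₁⟩ := D.hasA P hP0
  obtain ⟨b₁, hb₁⟩ := D.hasB P hP0
  have hXa : X.coeff a₁ = 1 := (hX01 a₁).resolve_left fun e => hP (by rw [← h P _ ha₁]; simpa using e)
  have hYb : Y.coeff b₁ = 1 := (hY01 b₁).resolve_left fun e => hP (by rw [← h P _ hb₁]; simpa using e)
  have hxpos : 0 < x := by
    rw [hx, aug_apply]
    exact Finset.sum_pos' (fun a _ => hXnn a) ⟨a₁, mem_univ _, by omega⟩
  have hypos : 0 < y := by
    rw [hy, aug_apply]
    exact Finset.sum_pos' (fun a _ => hYnn a) ⟨b₁, mem_univ _, by omega⟩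
  have hpx : (p : ℤ) ∣ x := by
    obtain ⟨c, hc⟩ := sum_periodic (z := z) (fun a => X.coeff a) hper
    rw [hx, aug_apply, hc, hz, nsmul_eq_mul]
    exact dvd_mul_right _ _
  have hpm : (p : ℤ) ∣ m := by
    rw [hm, ← hz]; exact Int.natCast_dvd_natCast.2 addOrderOf_dvd_card
  have hxm : x < m := by
    rw [hx, hm, aug_apply]
    calc ∑ a, X.coeff a < ∑ _a : A, (1 : ℤ) :=
          Finset.sum_lt_sum (fun a _ => by rcases hX01 a with e | e <;> omega) ⟨0, mem_univ _, by omega⟩
      _ = Fintype.card A := by simp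
  have hym : y ≤ m := by
    rw [hy, hm, aug_apply]
    calc ∑ a, Y.coeff a ≤ ∑ _a : A, (1 : ℤ) :=
          Finset.sum_le_sum fun a _ => by rcases hY01 a with e | e <;> omega
      _ = Fintype.card A := by simp
  -- the square
  have hflip : flip X = X := D.flip_of_inv h
  have hW := D.inv_mul h h
  set WA := X * X + Y * flip Y with hWA
  set WB := X * Y + Y * X with hWB
  have hWBper : ∀ a, WB.coeff (a + z) = WB.coeff a := fun a => by
    rw [hWB, mul_comm Y X, AddMonoidAlgebra.coeff_add, Finsupp.add_apply, Finsupp.add_apply,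
      periodic_mul hper a]
  set lam := WA.coeff z with hlam
  have hlev : ∀ Q : A × Bool, Q ≠ (0, false) → val WA WB Q = lam :=
    fun Q hQ => D.levels hW hz hWBper hQ
  have hW0 : WA.coeff 0 = x + y := by
    rw [hWA, AddMonoidAlgebra.coeff_add, Finsupp.add_apply, coeff_mul_flip_zero,
      show X * X = X * flip X by rw [hflip], coeff_mul_flip_zero, hx, hy, aug_apply, aug_apply]
    congr 1 <;> refine Finset.sum_congr rfl fun a _ => ?_
    · rcases hX01 a with e | e <;> simp [e]
    · rcases hY01 a with e | e <;> simp [e]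
  set n := x + y - lam with hn
  have hWAeq : WA = n • (1 : GA ℤ A) + lam • tot := ga_ext fun a => by
    by_cases ha : a = 0
    · subst ha
      rw [hW0, AddMonoidAlgebra.coeff_add, Finsupp.add_apply, AddMonoidAlgebra.coeff_smul,
        Finsupp.smul_apply, AddMonoidAlgebra.coeff_smul, Finsupp.smul_apply, coeff_tot,
        AddMonoidAlgebra.coeff_one_zero, smul_eq_mul, smul_eq_mul, mul_one, mul_one, sub_add_cancel]
    · have := hlev (a, false) (by simpa using ha)
      simp only [val_false] at this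
      rw [this, AddMonoidAlgebra.coeff_add, Finsupp.add_apply, AddMonoidAlgebra.coeff_smul,
        Finsupp.smul_apply, AddMonoidAlgebra.coeff_smul, Finsupp.smul_apply, coeff_tot,
        AddMonoidAlgebra.one_def, AddMonoidAlgebra.coeff_single, Finsupp.single_eq_of_ne ha,
        smul_zero, zero_add, smul_eq_mul, mul_one]
  have hWBeq : WB = lam • tot := ga_ext fun a => by
    have := hlev (a, true) (by simp)
    simp only [val_true] at this
    rw [this, AddMonoidAlgebra.coeff_smul, Finsupp.smul_apply, coeff_tot, smul_eq_mul, mul_one]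
  have hA1 : x * x + y * y = n + lam * m := by
    have := congrArg aug hWAeq
    simpa [hWA, ← hx, ← hy, hm, aug_tot] using this
  have hA2 : x * y + y * x = lam * m := by
    have := congrArg aug hWBeq
    simpa [hWB, ← hx, ← hy, hm, aug_tot] using this
  have hnsq : n = (x - y) ^ 2 := by linear_combination hA2 - hA1
  have hr : x - y ≠ 0 := by
    intro e
    have exy : y = x := by omega
    have hn0 : n = 0 := by rw [hnsq, e]; ring
    have hl : lam = 2 * x := by omega
    rw [exy, hl] at hA2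
    have : x * x = x * m := by linarith
    have := mul_left_cancel₀ hxpos.ne' this
    omega
  have hmeq : m * (x - y) ^ 2 = x * (m - y) + y * (m - x) := by
    rw [← hnsq, hn]; linear_combination hA2
  -- the rational identities
  set f := Int.castRingHom ℚ
  set XQ := cmap f X with hXQ
  set YQ := cmap f Y with hYQ
  have q1 : XQ * XQ + YQ * flip YQ = (n : ℚ) • 1 + (lam : ℚ) • tot := by
    have := congrArg (cmap f) hWAeq
    have ht : cmap f (tot : GA ℤ A) = tot := ga_ext fun a => by simp
    rw [hWA, map_add, map_add, map_mul, map_mul, ← flip_cmap, map_zsmul, map_zsmul, map_one, ht,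
      ← Int.cast_smul_eq_zsmul ℚ, ← Int.cast_smul_eq_zsmul ℚ] at this
    exact this
  have q2 : XQ * YQ + YQ * XQ = (lam : ℚ) • tot := by
    have := congrArg (cmap f) hWBeq
    have ht : cmap f (tot : GA ℤ A) = tot := ga_ext fun a => by simp
    rw [hWB, map_add, map_mul, map_mul, map_zsmul, ht, ← Int.cast_smul_eq_zsmul ℚ] at this
    exact this
  have hmQ : (m : ℚ) ≠ 0 := by
    rw [hm]; exact_mod_cast Fintype.card_ne_zero
  have hmc : (Fintype.card A : ℚ) = m := by rw [hm]; simp
  have haugX : aug XQ = (x : ℚ) := by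
    rw [hx, aug_apply, aug_apply, Int.cast_sum]; simp [XQ, f]
  have haugY : aug (flip YQ) = (y : ℚ) := by
    rw [aug_flip, hy, aug_apply, aug_apply, Int.cast_sum]; simp [YQ, f]
  set k := (x : ℚ) / m with hk
  set T : GA ℚ A := tot with hT
  set X0 := XQ - k • T with hX0
  have eT : T * T = (m : ℚ) • T := by rw [hT, mul_tot, aug_tot, hmc]
  have eX : XQ * T = (x : ℚ) • T := by rw [hT, mul_tot, haugX]
  have eY : flip YQ * T = (y : ℚ) • T := by rw [hT, mul_tot, haugY]
  have e0 : X0 * T = 0 := by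
    rw [hX0, sub_mul, eX, smul_mul_assoc, eT, smul_smul, hk, div_mul_cancel₀ _ hmQ, sub_self]
  obtain ⟨μ, hμ⟩ : ∃ μ : ℚ, X0 ^ 3 - (n : ℚ) • X0 = μ • T := by
    have h1 : XQ * XQ * XQ + XQ * YQ * flip YQ = (n : ℚ) • XQ + ((lam : ℚ) * x) • T := by
      have := congrArg (fun w => XQ * w) q1
      simp only [mul_add, mul_smul_comm, mul_one, ← mul_assoc, eX, smul_smul] at this
      exact this
    have h2 : XQ * YQ * flip YQ = ((lam : ℚ) * y / 2) • T := by
      have h3 := congrArg (fun w => w * flip YQ) q2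
      simp only [mul_comm YQ XQ, ← two_smul ℚ (XQ * YQ), smul_mul_assoc, mul_comm T (flip YQ), eY,
        smul_smul] at h3
      have := congrArg (fun w => (1 / 2 : ℚ) • w) h3
      simp only [smul_smul] at this
      rw [show (1 / 2 : ℚ) * 2 = 1 by norm_num, one_smul] at this
      rw [this]; congr 1; ring
    have h3 : X0 ^ 3 = XQ * XQ * XQ - (k * (x * x)) • T := by
      have e : ∀ w, w * X0 * X0 = w * X0 * XQ := fun w => by
        conv_lhs => arg 2; rw [hX0]
        rw [mul_sub, mul_smul_comm, mul_assoc w X0 T, e0, mul_zero, smul_zero, sub_zero]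
      have e' : X0 * X0 = X0 * XQ := by simpa using e 1
      calc X0 ^ 3 = X0 * X0 * XQ := by rw [pow_succ, sq]; exact e X0
        _ = X0 * XQ * XQ := by rw [e']
        _ = _ := by
          rw [hX0]
          simp only [sub_mul, smul_mul_assoc, mul_comm T XQ, eX, smul_smul]
          congr 2; ring
    refine ⟨(lam : ℚ) * x - (lam : ℚ) * y / 2 - k * (x * x) + n * k, ?_⟩
    rw [h2, ← eq_sub_iff_add_eq] at h1
    rw [h3, h1, hX0]
    module
  have hμ0 : μ = 0 := by
    have h1 : aug (X0 ^ 3 - (n : ℚ) • X0) = 0 := by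
      have hX00 : aug X0 = 0 := by
        rw [hX0, map_sub, Algebra.smul_def, map_mul, haugX, hT, aug_tot, hmc]
        simp [aug_apply, AddMonoidAlgebra.coe_algebraMap, Finsupp.single_apply, hk, hmQ]
      rw [map_sub, map_pow, Algebra.smul_def, map_mul, hX00]; simp
    rw [hμ, Algebra.smul_def, map_mul, hT, aug_tot, hmc] at h1
    have : aug (algebraMap ℚ (GA ℚ A) μ) = μ := by
      simp [aug_apply, AddMonoidAlgebra.coe_algebraMap, Finsupp.single_apply]
    rw [this] at h1
    exact (mul_eq_zero.1 h1).resolve_right hmQ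
  have hcube : X0 ^ 3 = (n : ℚ) • X0 := by
    rw [hμ0, zero_smul, sub_eq_zero] at hμ; exact hμ
  -- the positive idempotent
  have hnQ : (n : ℚ) ≠ 0 := by
    rw [hnsq]; exact_mod_cast pow_ne_zero 2 hr
  set Z := hat (AddSubgroup.zmultiples z) with hZ
  set To := hat (⊤ : AddSubgroup A) with hTo
  set E := (n : ℚ)⁻¹ • X0 ^ 2 with hE
  have hXp : ∀ a, ∀ t ∈ AddSubgroup.zmultiples z, X0.coeff (a + t) = X0.coeff a := by
    intro a t ht
    obtain ⟨i, rfl⟩ := ht
    have := Function.Periodic.zsmul (show Function.Periodic (fun a => X.coeff a) z from hper) i a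
    simp [hX0, hXQ, this, hT]
  have eZX : X0 * Z = X0 := mul_hat_of_periodic _ hXp
  have eTX : X0 * To = 0 := by rw [hTo, hat_top, mul_smul_comm, e0, smul_zero]
  have eZT : To * Z = To := mul_hat_of_periodic _ fun a t _ => by simp [hTo, hat_top]
  have eE : E * E = E := by
    rw [hE, smul_mul_smul_comm, show X0 ^ 2 * X0 ^ 2 = X0 ^ 3 * X0 by ring, hcube, smul_mul_assoc,
      smul_smul, ← sq X0, mul_assoc, inv_mul_cancel₀ hnQ, mul_one]
  have eEZ : E * Z = E := by rw [hE, smul_mul_assoc, sq, mul_assoc, eZX]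
  have eET : E * To = 0 := by rw [hE, smul_mul_assoc, sq, mul_assoc, eTX, mul_zero, smul_zero]
  set F := Z - To - E with hF
  have eF : F * F = F := by
    rw [hF]
    linear_combination hat_mul_self (AddSubgroup.zmultiples z) + hat_mul_self (⊤ : AddSubgroup A) +
      eE - 2 * eZT - 2 * eEZ + 2 * eET
  have hflipF : flip F = F := by
    have : flip X0 = X0 := flip_eq_self fun a => by
      simp only [hX0, AddMonoidAlgebra.coeff_sub, Finsupp.sub_apply, AddMonoidAlgebra.coeff_smul,
        Finsupp.smul_apply, hT, coeff_tot, hXQ, coeff_cmap, h (a, false) (-a, false) (D.symm a) |> id]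
      have := h (a, false) (-a, false) (D.symm a)
      simp only [val_false] at this
      rw [this]
    have hEf : flip E = E := by
      rw [hE]; refine flip_eq_self fun a => ?_
      have := congrArg (fun q => q.coeff a) (show flip (X0 ^ 2) = X0 ^ 2 by rw [map_pow, this])
      simp only [coeff_flip] at this
      simp [this]
    rw [hF, map_sub, map_sub, flip_hat, flip_hat, hEf]
  have hF0 : 0 ≤ F.coeff 0 := by
    rw [← eF, show F * F = F * flip F by rw [hflipF], coeff_mul_flip_zero]
    exact Finset.sum_nonneg fun t _ => mul_self_nonneg _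
  have hX02 : (X0 ^ 2).coeff 0 = x - (x : ℚ) * x / m := by
    rw [sq, show X0 * X0 = X0 * flip (XQ - k • T) by rw [← hX0]; congr 1; exact (flip_eq_self fun a => by
      have := h (a, false) (-a, false) (D.symm a)
      simp only [val_false] at this
      simp [hX0, hXQ, hT, this]).symm]
    rw [coeff_mul_flip_zero]
    have : ∀ a, X0.coeff a * (XQ - k • T).coeff a = (1 - 2 * k) * XQ.coeff a + k * k := by
      intro a
      rcases hX01 a with e | e <;> simp [hX0, hXQ, hT, f, e] <;> ring
    rw [Finset.sum_congr rfl fun a _ => this a, Finset.sum_add_distrib, ← Finset.mul_sum,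
      ← aug_apply, haugX, Finset.sum_const, Finset.card_univ, nsmul_eq_mul, hmc, hk]
    field_simp
    ring
  have hineq : (p : ℤ) * (x * (m - x)) ≤ (x - y) ^ 2 * (m - p) := by
    rw [hF] at hF0
    simp only [AddMonoidAlgebra.coeff_sub, Finsupp.sub_apply, hZ, hTo, coeff_hat,
      if_pos (zero_mem _), Nat.card_zmultiples, hz, hE, hat_top, coeff_tot, AddMonoidAlgebra.coeff_smul,
      Finsupp.smul_apply, hX02, smul_eq_mul, hmc, mul_one] at hF0
    rw [← hnsq]
    have hpQ : (0 : ℚ) < p := by exact_mod_cast hp.pos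
    have hmpos : (0 : ℚ) < m := by exact_mod_cast (show 0 < m by omega)
    have hnpos : (0 : ℚ) < n := lt_of_le_of_ne (by rw [hnsq]; exact_mod_cast sq_nonneg (x - y)) (Ne.symm hnQ)
    field_simp at hF0
    have : ((p : ℤ) : ℚ) * (x * (m - x)) ≤ n * (m - (p : ℤ)) := by push_cast; linarith
    exact_mod_cast this
  refine ⟨hpx, Int.le_of_dvd hxpos hpx, Int.le_of_dvd (by omega) (dvd_sub hpm hpx), hypos, hym, hr,
    hmeq, hineq, ?_, lam, by linear_combination -hA2, by omega, fun a ha => hlev (a, false) (by simpa using ha)⟩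
  rw [← hnsq]
  exact hcube

end DData

end

end CfsgLib.Char.DihedralB
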