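import Cfsg.Agent.Lib.Char.DihedralB.Key
import Mathlib.Tactic.ReduceModChar

/-!
# The prime two
-/

set_option autoImplicit false
set_option linter.all false

namespace CfsgLib.Char.DihedralB

open Finset

noncomputable section

variable {A : Type*} [AddCommGroup A] [Fintype A] [DecidableEq A] [IsAddCyclic A]

namespace DData

variable (D : DData A)

theorem key_odd {X Y : GA ℤ A} (h : D.Inv X Y) (h01 : ∀ P, val X Y P = 0 ∨ val X Y P = 1)
    {p : ℕ} [Fact p.Prime] (hp2 : p ≠ 2) {z : A} (hz : addOrderOf z = p)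
    (hper : ∀ a, X.coeff (a + z) = X.coeff a) (h0 : X.coeff 0 = 0) : ∀ P, val X Y P = 0 := by
  refine (D.params h h01 hz hper h0 rfl rfl rfl).resolve_right ?_
  rintro ⟨hpx, hx, hx', hy, hym, hr, h1, h2, -⟩
  have hp := (Fact.out : p.Prime)
  have hpm : (p : ℤ) ∣ (Fintype.card A : ℤ) := by
    rw [← hz]; exact Int.natCast_dvd_natCast.2 addOrderOf_dvd_card
  refine no_odd ?_ ?_ hpm hpx hx hx' hy hym (pow_ne_zero 2 hr) h1 h2
  · have := hp.two_le; omega
  · intro e
    have : p = 4 := by exact_mod_cast e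
    rw [this] at hp; exact absurd hp (by decide)

theorem periodic_off_odd {X Y : GA ℤ A} (h : D.Inv X Y) (h01 : ∀ P, val X Y P = 0 ∨ val X Y P = 1)
    (h0 : val X Y (0, false) = 0) (hne : ∃ P, val X Y P = 1) {z₂ : A} (hz₂ : z₂ ≠ 0)
    (hXz₂ : X.coeff z₂ = 0) (hgen : SameGen fun a => X.coeff a) {ℓ : ℕ} (hℓ : ℓ.Prime) (hℓ2 : ℓ ≠ 2)
    {w : A} (hw : addOrderOf w = ℓ)
    (hoff : ∀ a, a ∉ AddSubgroup.zmultiples w → X.coeff (a + w) = X.coeff a) : False := by
  classical
  haveI := Fact.mk hℓ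
  simp only [val_false] at h0
  have hX01 : ∀ a, X.coeff a = 0 ∨ X.coeff a = 1 := fun a => h01 (a, false)
  have hconst : ∀ a ∈ AddSubgroup.zmultiples w, a ≠ 0 → X.coeff a = X.coeff w := by
    intro a ha ha0
    refine hgen a w ?_
    have hord : addOrderOf a = ℓ := addOrderOf_eq_prime (by rw [← hw]; exact mem_zmultiples_iff'.1 ha) ha0
    exact AddSubgroup.eq_of_le_of_card_ge (AddSubgroup.zmultiples_le.2 ha)
      (by rw [Nat.card_zmultiples, Nat.card_zmultiples, hord, hw])
  rcases hX01 w with e | e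
  · obtain ⟨P, hP⟩ := hne
    have hall := D.key_odd h h01 hℓ2 hw (fun a => by
      by_cases ha : a ∈ AddSubgroup.zmultiples w
      · have hz : ∀ a ∈ AddSubgroup.zmultiples w, X.coeff a = 0 := fun a ha => by
          by_cases ha0 : a = 0
          · rw [ha0, h0]
          · rw [hconst a ha ha0, e]
        rw [hz a ha, hz _ (add_mem ha (AddSubgroup.mem_zmultiples w))]
      · exact hoff a ha) h0 P
    rw [hall] at hP
    exact zero_ne_one hP
  · set φ : A × Bool → ℤ := fun P => if P = (0, false) then 0 else 1 - val X Y P with hφ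
    have hinv : D.IsInv φ := fun P Q hQ => by
      have := D.ne_zero_iff hQ
      simp only [hφ, h P Q hQ]
      by_cases hP : P = (0, false)
      · rw [if_pos hP, if_pos (not_not.1 fun hne => (this.1 hne) hP)]
      · rw [if_neg hP, if_neg (this.2 hP)]
    set X' := mk fun a => φ (a, false) with hX'
    set Y' := mk fun a => φ (a, true) with hY'
    have hval : ∀ P, val X' Y' P = φ P := by rintro ⟨a, _ | _⟩ <;> simp [hX', hY']
    have h01' : ∀ P, val X' Y' P = 0 ∨ val X' Y' P = 1 := fun P => by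
      rw [hval, hφ]
      simp only
      split_ifs
      · exact Or.inl rfl
      · rcases h01 P with e | e <;> omega
    have hz : ∀ a ∈ AddSubgroup.zmultiples w, X'.coeff a = 0 := fun a ha => by
      simp only [hX', coeff_mk, hφ, val_false]
      by_cases ha0 : a = 0
      · simp [ha0]
      · rw [if_neg (by simp [ha0]), hconst a ha ha0, e, sub_self]
    have hall := D.key_odd (D.inv_mk hinv) h01' hℓ2 hw (fun a => by
      by_cases ha : a ∈ AddSubgroup.zmultiples w
      · rw [hz a ha, hz _ (add_mem ha (AddSubgroup.mem_zmultiples w))]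
      · have ha0 : a ≠ 0 := fun e => ha (e ▸ zero_mem _)
        have haw : a + w ≠ 0 := fun e => ha (by
          rw [eq_neg_of_add_eq_zero_left e]; exact neg_mem (AddSubgroup.mem_zmultiples w))
        simp [hX', hφ, ha0, haw, hoff a ha]) (hz 0 (zero_mem _)) (z₂, false)
    rw [hval] at hall
    simp [hφ, hz₂, hXz₂] at hall

theorem key_two {X Y : GA ℤ A} (h : D.Inv X Y) (h01 : ∀ P, val X Y P = 0 ∨ val X Y P = 1)
    {z : A} (hz : addOrderOf z = 2) (hper : ∀ a, X.coeff (a + z) = X.coeff a) (h0 : X.coeff 0 = 0)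
    (hgen : SameGen fun a => X.coeff a) : ∀ P, val X Y P = 0 := by
  classical
  haveI : Fact (Nat.Prime 2) := ⟨Nat.prime_two⟩
  obtain ⟨x, hx⟩ : ∃ x, x = aug X := ⟨_, rfl⟩
  obtain ⟨y, hy⟩ : ∃ y, y = aug Y := ⟨_, rfl⟩
  obtain ⟨m, hm⟩ : ∃ m : ℤ, m = Fintype.card A := ⟨_, rfl⟩
  refine (D.params h h01 hz hper h0 hx hy hm).resolve_right ?_
  rintro ⟨hpx, hxge, hx'ge, hypos, hym, hr, hmeq, -, hcube, lam, hlam1, hlam2, hW⟩
  push_cast at hxge hx'ge
  have hX01 : ∀ a, X.coeff a = 0 ∨ X.coeff a = 1 := fun a => h01 (a, false)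
  have hY01 : ∀ a, Y.coeff a = 0 ∨ Y.coeff a = 1 := fun a => h01 (a, true)
  have hz0 : z ≠ 0 := fun e => by rw [e, addOrderOf_zero] at hz; omega
  have hXz : X.coeff z = 0 := by
    have := hper 0
    rwa [zero_add, h0] at this
  obtain ⟨a₁, ha₁⟩ : ∃ a, X.coeff a = 1 := by
    by_contra hno
    push Not at hno
    rw [hx, aug_apply, Finset.sum_eq_zero fun a _ => (hX01 a).resolve_right (hno a)] at hxge
    omega
  set f := Int.castRingHom ℚ
  set r := x - y with hrdef
  set k := (x : ℚ) / m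
  set X0 := cmap f X - k • (tot : GA ℚ A) with hX0
  set q := (r : ℚ)⁻¹ • X0 with hq
  have hrQ : (r : ℚ) ≠ 0 := Int.cast_ne_zero.2 hr
  have hqa : ∀ a, (r : ℚ) * q.coeff a = (X.coeff a : ℚ) - k := by
    intro a
    rw [hq, AddMonoidAlgebra.coeff_smul, Finsupp.smul_apply, smul_eq_mul, ← mul_assoc,
      mul_inv_cancel₀ hrQ, one_mul, hX0]
    simp [f]
  have hev : ∀ L, ∃ n : ℤ, ev L q = n ∧ |n| ≤ 1 := by
    intro L
    have hq3 : q ^ 3 = q := by
      rw [hq, smul_pow, hcube, smul_smul]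
      congr 1
      push_cast
      field_simp
    have := congrArg (ev L) hq3
    rw [map_pow] at this
    have h4 : ev L q * (ev L q - 1) * (ev L q + 1) = 0 := by linear_combination this
    rcases mul_eq_zero.1 h4 with h5 | h5
    · rcases mul_eq_zero.1 h5 with h6 | h6
      · exact ⟨0, by simp [h6], by norm_num⟩
      · exact ⟨1, by rw [sub_eq_zero.1 h6]; simp, by norm_num⟩
    · exact ⟨-1, by rw [eq_neg_of_add_eq_zero_left h5]; simp, by norm_num⟩
  have hqgen : SameGen fun a => q.coeff a := fun a b hab =>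
    mul_left_cancel₀ hrQ (by rw [hqa, hqa]; exact congrArg (fun t : ℤ => (t : ℚ) - k) (hgen a b hab))
  obtain ⟨F, hF, hcong⟩ := int_congr hqgen fun L => let ⟨n, hn, _⟩ := hev L; ⟨n, hn⟩
  have hmQ : (m : ℚ) ≠ 0 := by rw [hm]; exact_mod_cast Fintype.card_ne_zero
  have hrF : ∀ a, r * F a = m * X.coeff a - x := fun a => Int.cast_injective (α := ℚ) (by
    push_cast
    rw [hF a, mul_left_comm, hqa, show ((Fintype.card A : ℕ) : ℚ) = m by rw [hm]; simp]
    simp only [k]
    field_simp)
  have hrx : r ∣ x := ⟨-F 0, by have := hrF 0; rw [h0] at this; linarith⟩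
  have hrm : r ∣ m := by
    have h1 : r ∣ m - x := ⟨F a₁, by rw [hrF a₁, ha₁, mul_one]⟩
    simpa using dvd_add h1 hrx
  -- no odd prime divides `r`
  have hodd : ∀ ℓ : ℕ, ℓ.Prime → ℓ ∣ r.natAbs → ℓ = 2 := by
    intro ℓ hℓ hℓr
    by_contra hℓ2
    haveI := Fact.mk hℓ
    have hℓm : ℓ ∣ Fintype.card A := by
      have := hℓr.trans (Int.natAbs_dvd_natAbs.2 hrm)
      rwa [hm, Int.natAbs_natCast] at this
    obtain ⟨w, hw⟩ := exists_prime_addOrderOf_dvd_card ℓ hℓm
    refine D.periodic_off_odd h h01 (by simpa using h0) ⟨(a₁, false), by simpa using ha₁⟩ hz0 hXz hgen hℓ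
      hℓ2 hw fun a ha => periodic_of_sameGen hgen hℓ hw (fun y' hy0 hyℓ => ?_) ha
    set v := (Fintype.card A).factorization ℓ with hv
    obtain ⟨t, ht⟩ := hcong ℓ hℓ v (Nat.ordProj_dvd _ _) y' w hw hyℓ
    have h1 : r * ((ℓ ^ v : ℕ) : ℤ) * t = m * (X.coeff y' - X.coeff (y' + w)) := by
      rw [mul_assoc, ← ht, mul_sub, hrF, hrF]; ring
    by_contra hne
    have h2 : m.natAbs = r.natAbs * ℓ ^ v * t.natAbs := by
      have := congrArg Int.natAbs h1
      rw [Int.natAbs_mul, Int.natAbs_mul, Int.natAbs_natCast, Int.natAbs_mul] at this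
      rw [this]
      have : (X.coeff y' - X.coeff (y' + w)).natAbs = 1 := by
        rcases hX01 y' with e | e <;> rcases hX01 (y' + w) with e' | e' <;> simp [e, e'] at hne ⊢
      rw [this, mul_one]
    refine Nat.pow_succ_factorization_not_dvd (n := Fintype.card A) Fintype.card_ne_zero hℓ ?_
    rw [hm, Int.natAbs_natCast] at h2
    rw [pow_succ]
    exact (mul_dvd_mul_left _ hℓr).trans ⟨t.natAbs, by rw [mul_comm (ℓ ^ _) r.natAbs]; exact h2⟩
  -- a proper subgroup containing everything non-constant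
  obtain ⟨H, g, hgH, hHc⟩ : ∃ (H : AddSubgroup A) (g : A), g ∉ H ∧
      ∀ a, a ∉ H → X.coeff a = X.coeff g := by
    obtain ⟨g, hg⟩ := IsAddCyclic.exists_generator (α := A)
    have hgo : addOrderOf g = Fintype.card A := by
      rw [addOrderOf_eq_card_of_forall_mem_zmultiples hg, Nat.card_eq_fintype_card]
    set v := (Fintype.card A).factorization 2 with hv
    have hvd : 2 ^ v ∣ Fintype.card A := Nat.ordProj_dvd _ _
    by_cases hpow : Fintype.card A = 2 ^ v
    · have hv1 : 0 < v := by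
        rcases Nat.eq_zero_or_pos v with e | e
        · rw [e, pow_zero] at hpow; rw [hm, hpow] at hx'ge; omega
        · exact e
      refine ⟨(nsmulAddMonoidHom (2 ^ (v - 1)) : A →+ A).ker, g, ?_, fun a ha => hgen a g ?_⟩
      · rw [AddMonoidHom.mem_ker, nsmulAddMonoidHom_apply, ← addOrderOf_dvd_iff_nsmul_eq_zero, hgo, hpow,
          Nat.pow_dvd_pow_iff_le_right (by norm_num)]
        omega
      · refine AddSubgroup.eq_of_le_of_card_ge (fun b _ => hg b) ?_
        rw [Nat.card_zmultiples, Nat.card_zmultiples, hgo, hpow]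
        obtain ⟨j, hj, hja⟩ := (Nat.dvd_prime_pow Nat.prime_two).1
          (hpow ▸ addOrderOf_dvd_card : addOrderOf a ∣ 2 ^ v)
        rw [hja]
        refine Nat.pow_le_pow_right (by norm_num) ?_
        by_contra hlt
        apply ha
        rw [AddMonoidHom.mem_ker, nsmulAddMonoidHom_apply, ← addOrderOf_dvd_iff_nsmul_eq_zero, hja]
        exact Nat.pow_dvd_pow 2 (by omega)
    · have hhas : ∀ a : A, (2 ^ v) • a ≠ 0 → ∃ ℓ, ℓ.Prime ∧ ℓ ≠ 2 ∧ ℓ ∣ addOrderOf a := by
        intro a ha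
        by_contra hno
        push Not at hno
        apply ha
        rw [← addOrderOf_dvd_iff_nsmul_eq_zero]
        have ho := (addOrderOf_pos a).ne'
        rw [Nat.eq_prime_pow_of_unique_prime_dvd ho (p := 2) fun {d} hd hdd => by
          by_contra h2; exact hno d hd h2 hdd]
        refine Nat.pow_dvd_pow 2 ?_
        refine (Nat.Prime.pow_dvd_iff_le_factorization Nat.prime_two Fintype.card_ne_zero).1 ?_
        rw [← Nat.eq_prime_pow_of_unique_prime_dvd ho (p := 2) fun {d} hd hdd => by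
          by_contra h2; exact hno d hd h2 hdd]
        exact addOrderOf_dvd_card
      have hg' : (2 ^ v) • g ≠ 0 := by
        rw [Ne, ← addOrderOf_dvd_iff_nsmul_eq_zero, hgo]
        exact fun h' => hpow (Nat.dvd_antisymm h' hvd)
      refine ⟨(nsmulAddMonoidHom (2 ^ v) : A →+ A).ker, g, ?_, fun a ha => ?_⟩
      · rwa [AddMonoidHom.mem_ker, nsmulAddMonoidHom_apply]
      · rw [AddMonoidHom.mem_ker, nsmulAddMonoidHom_apply] at ha
        exact const_odd hgen hr hqa (fun L _ => hev L) hodd (hhas a ha) (hhas g hg')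
  -- the small part lies in a proper subgroup
  set T := hat (⊤ : AddSubgroup A) with hT
  have hG0 : (hat H - T).coeff 0 ≠ 0 := by
    rw [AddMonoidAlgebra.coeff_sub, Finsupp.sub_apply, hT, coeff_hat, coeff_hat, if_pos (zero_mem _),
      if_pos (zero_mem _), sub_ne_zero, Ne, inv_inj, Nat.cast_inj]
    intro e
    exact hgH (by rw [AddSubgroup.eq_of_le_of_card_ge le_top e.ge]; trivial)
  have hG : ∀ (W : GA ℚ A) (s : ℚ), X0 = s • (W - (aug W / m) • tot) →
      (∀ a, a ∉ H → W.coeff a = 0) → s * s = 1 → aug W ≠ 0 → aug W ^ 2 = ((r : ℚ)) ^ 2 := by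
    intro W s hW' hsupp hs hw0
    have e1 : W * hat H = aug W • hat H := mul_hat_of_support H hsupp
    have e2 : W * T = aug W • T := mul_hat_of_support ⊤ fun a ha => absurd (AddSubgroup.mem_top a) ha
    have e3 : (tot : GA ℚ A) * (hat H - T) = 0 := by
      have a1 : (tot : GA ℚ A) * hat H = tot := mul_hat_of_periodic H fun a t _ => by simp
      have a2 : (tot : GA ℚ A) * T = tot := mul_hat_of_periodic ⊤ fun a t _ => by simp
      rw [mul_sub, a1, a2, sub_self]
    have e4 : X0 * (hat H - T) = (s * aug W) • (hat H - T) := by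
      rw [hW', smul_mul_assoc, sub_mul, smul_mul_assoc, e3, smul_zero, sub_zero, mul_sub, e1, e2,
        ← smul_sub, smul_smul]
    have e5 : X0 ^ 3 * (hat H - T) = (s * aug W) ^ 3 • (hat H - T) := by
      rw [pow_succ, sq, mul_assoc, e4, mul_smul_comm, mul_assoc, e4, mul_smul_comm, e4, smul_smul,
        smul_smul]
      congr 1; ring
    rw [hcube, smul_mul_assoc, e4, smul_smul, ← sub_eq_zero, ← sub_smul] at e5
    have e6 := congrArg (fun u => u.coeff 0) e5
    simp only [AddMonoidAlgebra.coeff_smul, Finsupp.smul_apply, smul_eq_mul,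
      AddMonoidAlgebra.coeff_zero, Finsupp.coe_zero, Pi.zero_apply] at e6
    have e7 := (mul_eq_zero.1 e6).resolve_right hG0
    have hs0 : s ≠ 0 := fun e => by rw [e, mul_zero] at hs; exact zero_ne_one hs
    push_cast at e7
    have : (s * aug W) * ((r : ℚ) ^ 2 - (s * s) * aug W ^ 2) = 0 := by linear_combination e7
    rw [hs, one_mul] at this
    have := (mul_eq_zero.1 this).resolve_left (mul_ne_zero hs0 hw0)
    linarith
  have haugX : aug (cmap f X) = (x : ℚ) := by
    rw [hx, aug_apply, aug_apply, Int.cast_sum]; simp [f]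
  have hmc : (Fintype.card A : ℚ) = m := by rw [hm]; simp
  have key8 : m = 8 ∧ y = 4 ∧ lam + 4 = x + 4 ∧
      ((x = 2 ∧ ∀ a, a ∉ H → X.coeff a = 0) ∨ (x = 6 ∧ ∀ a, a ∉ H → X.coeff a = 1)) := by
    rcases hX01 g with e | e
    · have hsupp : ∀ a, a ∉ H → X.coeff a = 0 := fun a ha => by rw [hHc a ha, e]
      have h1 := hG (cmap f X) 1 (by rw [one_smul, haugX, hX0]) (fun a ha => by simp [f, hsupp a ha])
        (one_mul 1) (by rw [haugX]; exact_mod_cast (show x ≠ 0 by omega))
      rw [haugX] at h1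
      have h2 : x ^ 2 = r ^ 2 := by exact_mod_cast h1
      have h3 : y * (y - 2 * x) = 0 := by rw [hrdef] at h2; linear_combination -h2
      have h4 : y = 2 * x := by
        have := (mul_eq_zero.1 h3).resolve_left (by omega); omega
      have h5 : x * (m * x - 3 * m + 4 * x) = 0 := by rw [h4] at hmeq; simp only [hrdef, h4] at *; linear_combination hmeq
      have h6 := (mul_eq_zero.1 h5).resolve_left (by omega)
      have h7 : x < 3 := by nlinarith
      have hx2 : x = 2 := by omega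
      subst hx2
      refine ⟨by linarith, by omega, ?_, Or.inl ⟨rfl, hsupp⟩⟩
      rw [hlam2, hrdef, h4]; norm_num
    · have hsupp : ∀ a, a ∉ H → X.coeff a = 1 := fun a ha => by rw [hHc a ha, e]
      have haug : aug (tot - cmap f X) = (m - x : ℚ) := by rw [map_sub, aug_tot, haugX, hmc]
      have h1 := hG (tot - cmap f X) (-1) (by
          rw [haug, hX0, sub_div, div_self hmQ, sub_smul, one_smul, neg_one_smul]
          simp only [k]; abel)
        (fun a ha => by simp [f, hsupp a ha]) (by norm_num)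
        (by rw [haug]; exact_mod_cast (show m - x ≠ 0 by omega))
      rw [haug] at h1
      have h2 : (m - x) ^ 2 = r ^ 2 := by exact_mod_cast h1
      have h3 : (m - y) * ((m - y) - 2 * (m - x)) = 0 := by rw [hrdef] at h2; linear_combination -h2
      rcases mul_eq_zero.1 h3 with h4 | h4
      · have hy' : y = m := by omega
        simp only [hrdef, hy'] at hmeq
        have h5 : m * ((m - x) * (m - x - 1)) = 0 := by linear_combination hmeq
        have h6 := (mul_eq_zero.1 h5).resolve_left (by omega)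
        rcases mul_eq_zero.1 h6 with h7 | h7 <;> omega
      · have hy' : y = 2 * x - m := by omega
        simp only [hrdef, hy'] at hmeq
        have h5 : (m - x) * (m * (m - x) - 3 * m + 4 * (m - x)) = 0 := by linear_combination hmeq
        have h6 := (mul_eq_zero.1 h5).resolve_left (by omega)
        have h7 : m - x < 3 := by nlinarith
        have hx2 : x = m - 2 := by omega
        subst hx2
        have hm8 : m = 8 := by nlinarith
        subst hm8
        refine ⟨rfl, by omega, ?_, Or.inr ⟨by norm_num, hsupp⟩⟩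
        rw [hlam2, hrdef, hy']; norm_num
  obtain ⟨hm8, hy4, hlam, hcase⟩ := key8
  have hcard : Nat.card A = 8 := by
    rw [Nat.card_eq_fintype_card]; exact_mod_cast hm.symm.trans hm8
  let e : ZMod 8 ≃+ A := (zmodAddEquivOfGenerator (g := (IsAddCyclic.exists_generator (α := A)).choose)
    (IsAddCyclic.exists_generator (α := A)).choose_spec hcard)
  have hsum8 : ∀ F : A → ℤ, ∑ a, F a = F (e 0) + F (e 1) + F (e 2) + F (e 3) + F (e 4) + F (e 5) +
      F (e 6) + F (e 7) := fun F => by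
    rw [← e.toEquiv.sum_comp F]
    exact Fin.sum_univ_eight (fun i => F (e i))
  have hmul : ∀ (u w : GA ℤ A) (i : ZMod 8), (u * w).coeff (e i) =
      u.coeff (e 0) * w.coeff (e (i - 0)) + u.coeff (e 1) * w.coeff (e (i - 1)) +
      u.coeff (e 2) * w.coeff (e (i - 2)) + u.coeff (e 3) * w.coeff (e (i - 3)) +
      u.coeff (e 4) * w.coeff (e (i - 4)) + u.coeff (e 5) * w.coeff (e (i - 5)) +
      u.coeff (e 6) * w.coeff (e (i - 6)) + u.coeff (e 7) * w.coeff (e (i - 7)) := fun u w i => by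
    rw [coeff_mul_sum, hsum8]
    simp only [map_sub]
  have hz4 : z = e 4 := by
    obtain ⟨i, rfl⟩ := e.surjective z
    congr 1
    rw [AddEquiv.addOrderOf_eq] at hz
    have h2 : 2 • i = 0 := hz ▸ addOrderOf_nsmul_eq_zero i
    have hi0 : i ≠ 0 := fun h' => hz0 (by rw [h', map_zero])
    exact (show ∀ i : ZMod 8, 2 • i = 0 → i ≠ 0 → i = 4 by decide) i h2 hi0
  have hH : ∀ i : ZMod 8, i = 1 ∨ i = 3 ∨ i = 5 ∨ i = 7 → e i ∉ H := by
    intro i hi hmem
    refine hgH ?_
    obtain ⟨j, hj⟩ := e.surjective g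
    rw [← hj, mem_iff_card_nsmul, ← map_nsmul, AddEquiv.map_eq_zero_iff]
    rw [mem_iff_card_nsmul, ← map_nsmul, AddEquiv.map_eq_zero_iff] at hmem
    obtain ⟨d, hd⟩ := (show ∀ i j : ZMod 8, i = 1 ∨ i = 3 ∨ i = 5 ∨ i = 7 →
      ∃ d : Fin 8, d.val • i = j by decide) i j hi
    rw [← hd, smul_comm, hmem, smul_zero]
  have hper' : ∀ i : ZMod 8, X.coeff (e (i + 4)) = X.coeff (e i) := fun i => by
    rw [map_add, ← hz4, hper]
  have x0 : X.coeff (e 0) = 0 := by rw [map_zero, h0]
  have x4 : X.coeff (e 4) = 0 := by rw [← hz4, hXz]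
  have x6 : X.coeff (e 6) = X.coeff (e 2) := hper' 2
  have hsumX : X.coeff (e 0) + X.coeff (e 1) + X.coeff (e 2) + X.coeff (e 3) + X.coeff (e 4) +
      X.coeff (e 5) + X.coeff (e 6) + X.coeff (e 7) = x := by rw [hx, aug_apply, hsum8]
  have hsumY : Y.coeff (e 0) + Y.coeff (e 1) + Y.coeff (e 2) + Y.coeff (e 3) + Y.coeff (e 4) +
      Y.coeff (e 5) + Y.coeff (e 6) + Y.coeff (e 7) = 4 := by rw [← hy4, hy, aug_apply, hsum8]
  obtain ⟨b, hb⟩ : ∃ b : A → Bool, ∀ a, Y.coeff a = ((b a).toNat : ℤ) :=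
    ⟨fun a => decide (Y.coeff a = 1), fun a => by rcases hY01 a with e | e <;> simp [e]⟩
  have hW' : ∀ i : ZMod 8, i ≠ 0 → (X * X).coeff (e i) + (Y * flip Y).coeff (e i) = lam := by
    intro i hi
    rw [← Finsupp.add_apply, ← AddMonoidAlgebra.coeff_add]
    exact hW _ fun h' => hi ((AddEquiv.map_eq_zero_iff e).1 h')
  have w1 := hW' 1 (by decide)
  have w2 := hW' 2 (by decide)
  have w4 := hW' 4 (by decide)
  simp only [hmul, coeff_flip, ← map_neg, hb] at w1 w2 w4
  simp only [hb] at hsumY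
  apply no_eight (b (e 0)) (b (e 1)) (b (e 2)) (b (e 3)) (b (e 4)) (b (e 5)) (b (e 6)) (b (e 7))
  have x1 := hH 1 (by decide)
  have x3 := hH 3 (by decide)
  have x5 := hH 5 (by decide)
  have x7 := hH 7 (by decide)
  rcases hcase with ⟨hx2, hsupp⟩ | ⟨hx6, hsupp⟩
  · replace x1 := hsupp _ x1
    replace x3 := hsupp _ x3
    replace x5 := hsupp _ x5
    replace x7 := hsupp _ x7
    have x2 : X.coeff (e 2) = 1 := by omega
    rw [x2] at x6
    norm_num at w1 w2 w4
    simp only [← map_neg] at w1 w2 w4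
    reduce_mod_char at w1 w2 w4
    simp only [map_zero] at x0 w1 w2 w4 hsumY ⊢
    simp only [x0, h0, x1, x2, x3, x4, x5, x6, x7] at w1 w2 w4
    norm_num at w1 w2 w4
    refine ⟨?_, ?_, ?_, ?_⟩ <;> (zify; linarith)
  · replace x1 := hsupp _ x1
    replace x3 := hsupp _ x3
    replace x5 := hsupp _ x5
    replace x7 := hsupp _ x7
    have x2 : X.coeff (e 2) = 1 := by omega
    rw [x2] at x6
    norm_num at w1 w2 w4
    simp only [← map_neg] at w1 w2 w4
    reduce_mod_char at w1 w2 w4
    simp only [map_zero] at x0 w1 w2 w4 hsumY ⊢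
    simp only [x0, h0, x1, x2, x3, x4, x5, x6, x7] at w1 w2 w4
    norm_num at w1 w2 w4
    refine ⟨?_, ?_, ?_, ?_⟩ <;> (zify; linarith)

/-- An invariant set avoiding `Z` with rotation part periodic under `Z` is empty. -/
theorem key {X Y : GA ℤ A} (h : D.Inv X Y) (h01 : ∀ P, val X Y P = 0 ∨ val X Y P = 1)
    {p : ℕ} [Fact p.Prime] {z : A} (hz : addOrderOf z = p)
    (hper : ∀ a, X.coeff (a + z) = X.coeff a) (h0 : X.coeff 0 = 0)
    (hgen : SameGen fun a => X.coeff a) : ∀ P, val X Y P = 0 := by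
  by_cases hp2 : p = 2
  · subst hp2
    exact D.key_two h h01 hz hper h0 hgen
  · exact D.key_odd h h01 hp2 hz hper h0

end DData

end

end CfsgLib.Char.DihedralB
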