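import Cfsg.Agent.Lib.Char.DihedralB.Data

/-!
# Invariant pairs with periodic reflection part
-/

set_option autoImplicit false
set_option linter.all false

namespace CfsgLib.Char.DihedralB

open Finset

noncomputable section

variable {A : Type*} [AddCommGroup A] [Fintype A]

theorem periodic_mul {R : Type*} [CommRing R] {u w : GA R A} {z : A}
    (h : ∀ a, u.coeff (a + z) = u.coeff a) (a : A) : (u * w).coeff (a + z) = (u * w).coeff a := by
  rw [mul_comm, coeff_mul_sum, coeff_mul_sum]
  exact Finset.sum_congr rfl fun t _ => by rw [show a + z - t = a - t + z by abel, h]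

theorem aug_mul_tot (u : GA ℚ A) : aug (u * tot) = aug u * Fintype.card A := by
  rw [map_mul, aug_tot]

theorem periodic_mul_flip_eq_zero [DecidableEq A] {p : ℕ} [Fact p.Prime] {z : A}
    (hz : addOrderOf z = p) {v : GA (ZMod p) A} (hv : ∀ a, v.coeff (a + z) = v.coeff a) :
    v * flip v = 0 := ga_ext fun a => by
  rw [coeff_mul_flip]
  obtain ⟨c, hc⟩ := sum_periodic (z := z) (fun t => v.coeff t * v.coeff (t - a)) fun t => by
    rw [hv, show t + z - a = t - a + z by abel, hv]
  rw [hc, hz, nsmul_eq_mul, ZMod.natCast_self, zero_mul]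
  rfl

namespace DData

variable [DecidableEq A] [IsAddCyclic A] (D : DData A)

/-- A level set with periodic reflection part has periodic rotation part away from the period. -/
theorem indicator_periodic {u v : GA ℤ A} (h : D.Inv u v) (h01 : ∀ a, u.coeff a = 0 ∨ u.coeff a = 1)
    {p : ℕ} [Fact p.Prime] {z : A} (hz : addOrderOf z = p) (hv : ∀ a, v.coeff (a + z) = v.coeff a)
    {a : A} (ha : a ∉ AddSubgroup.zmultiples z) (hua : u.coeff a = 1) :
    ∀ w ∈ AddSubgroup.zmultiples z, u.coeff (a + w) = 1 := by
  have hp := (Fact.out : p.Prime)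
  set f := Int.castRingHom (ZMod p)
  set x := cmap f u with hx
  set y := cmap f v with hy
  have hI : D.Inv x y := D.inv_cmap f h
  have hyy : y * flip y = 0 :=
    periodic_mul_flip_eq_zero hz fun a => by simp [y, hv]
  have hpow : ∀ n : ℕ, D.Inv (x ^ (n + 1)) (((n + 1 : ℕ) : GA (ZMod p) A) * x ^ n * y) := by
    intro n
    induction n with
    | zero => simpa using hI
    | succ n ih =>
      have h1 := D.inv_mul ih hI
      rw [mul_assoc (((n + 1 : ℕ) : GA (ZMod p) A) * x ^ n) y (flip y), hyy, mul_zero, add_zero,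
        ← pow_succ] at h1
      convert h1 using 1
      push_cast
      ring
  obtain ⟨k, hk⟩ : ∃ k, p = k + 1 := ⟨p - 1, by have := hp.pos; omega⟩
  have hI2 : D.Inv (x ^ p) (0 : GA (ZMod p) A) := by
    have h1 := hpow k
    rw [← hk] at h1
    have h0 : ((p : ℕ) : GA (ZMod p) A) = 0 := by
      rw [← map_natCast (algebraMap (ZMod p) (GA (ZMod p) A)), ZMod.natCast_self, map_zero]
    rwa [h0, zero_mul, zero_mul] at h1
  have hb0 : p • a ≠ 0 := fun e => ha (by rw [mem_zmultiples_iff', hz]; exact e)
  obtain ⟨c, hc⟩ := D.hasB (p • a, false) (by simpa using hb0)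
  have h0 := hI2 _ _ hc
  simp only [val_true, val_false, AddMonoidAlgebra.coeff_zero, Finsupp.coe_zero,
    Pi.zero_apply] at h0
  rw [coeff_pow_prime] at h0
  set fib := univ.filter fun t : A => p • t = p • a
  set S := fib.filter fun t => u.coeff t = 1
  have hS : (S.card : ZMod p) = 0 := by
    rw [h0, ← Finset.sum_boole]
    refine Finset.sum_congr rfl fun t _ => ?_
    rcases h01 t with e | e <;> simp [x, f, e]
  have hfib : fib.card ≤ p := by
    refine le_trans ?_ (IsAddCyclic.card_nsmul_eq_zero_le (α := A) hp.pos)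
    refine Finset.card_le_card_of_injOn (fun t => t - a) (fun t ht => ?_) fun s _ t _ e =>
      sub_left_injective e
    simp only [Finset.coe_filter, Finset.mem_univ, true_and, Set.mem_setOf_eq, nsmul_sub]
    rw [(Finset.mem_filter.1 ht).2, sub_self]
  have haS : a ∈ S := Finset.mem_filter.2 ⟨Finset.mem_filter.2 ⟨mem_univ _, rfl⟩, hua⟩
  have heq : S = fib := by
    refine Finset.eq_of_subset_of_card_le (Finset.filter_subset _ _) ?_
    have := Nat.le_of_dvd (Finset.card_pos.2 ⟨a, haS⟩) ((ZMod.natCast_eq_zero_iff _ _).1 hS)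
    omega
  intro w hw
  have hmem : a + w ∈ fib := Finset.mem_filter.2 ⟨mem_univ _, by
    have hpw : p • w = 0 := by rw [← hz]; exact (mem_zmultiples_iff').1 hw
    rw [nsmul_add, hpw, add_zero]⟩
  rw [← heq] at hmem
  exact (Finset.mem_filter.1 hmem).2

/-- An invariant level set with periodic reflection part contains all of `Z ∖ 0` or none of it. -/
theorem indicator_const {u v : GA ℤ A} (h : D.Inv u v) (h01 : ∀ a, u.coeff a = 0 ∨ u.coeff a = 1)
    {p : ℕ} [Fact p.Prime] {z : A} (hz : addOrderOf z = p) (hv : ∀ a, v.coeff (a + z) = v.coeff a)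
    (h0 : u.coeff 0 = 0)
    (hper : ∀ a, a ∉ AddSubgroup.zmultiples z → u.coeff (a + z) = u.coeff a)
    {w : A} (hw : w ∈ AddSubgroup.zmultiples z) (huw : u.coeff w = 1) : u.coeff z = 1 := by
  classical
  have hp := (Fact.out : p.Prime)
  have hpz : p • z = 0 := hz ▸ addOrderOf_nsmul_eq_zero z
  let η : ZMod p →+ A := ZMod.lift p ⟨zmultiplesHom A z, by simp [hpz]⟩
  have hη : ∀ k : ℕ, η (k : ZMod p) = k • z := fun k => by
    rw [← Int.cast_natCast k, ZMod.lift_coe]
    simp
  have hηinj : Function.Injective η := by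
    refine (injective_iff_map_eq_zero η).2 fun x hx => ?_
    rw [← ZMod.natCast_zmod_val x, hη, ← addOrderOf_dvd_iff_nsmul_eq_zero, hz] at hx
    rw [← ZMod.natCast_zmod_val x]
    exact (ZMod.natCast_eq_zero_iff _ _).2 hx
  have hη1 : η 1 = z := by
    have := hη 1
    rwa [Nat.cast_one, one_nsmul] at this
  let ψ := ZMod.stdAddChar (N := p)
  let ζ := ψ 1
  have hζ : IsPrimitiveRoot ζ p := by
    refine IsPrimitiveRoot.iff_orderOf.2 (orderOf_eq_prime ?_ ?_)
    · rw [← AddChar.map_nsmul_eq_pow, nsmul_one, ZMod.natCast_self, AddChar.map_zero_eq_one]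
    · intro e
      exact one_ne_zero (ZMod.injective_stdAddChar (e.trans (AddChar.map_zero_eq_one ψ).symm))
  have hsum : ∀ g : ZMod p → ℚ,
      ∑ j, (g j : ℂ) * ψ j = ∑ k ∈ range p, (g (k : ZMod p) : ℂ) * ζ ^ k := by
    intro g
    refine Finset.sum_nbij' (fun j => j.val) (fun k => (k : ZMod p)) ?_ ?_ ?_ ?_ ?_
    · exact fun j _ => Finset.mem_range.2 (ZMod.val_lt j)
    · exact fun k _ => mem_univ _
    · exact fun j _ => ZMod.natCast_zmod_val j
    · exact fun k hk => ZMod.val_cast_of_lt (Finset.mem_range.1 hk)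
    · intro j _
      rw [ZMod.natCast_zmod_val, ← AddChar.map_nsmul_eq_pow, nsmul_one, ZMod.natCast_zmod_val]
  have hconst : ∀ g : ZMod p → ℚ, ∑ j, (g j : ℂ) * ψ j = 0 → ∀ j, g j = g 0 := by
    intro g hg j
    have := eq_of_zeta (p := p) (fun k => g (k : ZMod p)) hζ (by rw [← hsum]; exact hg) (ZMod.val_lt j)
    simpa using this
  -- the sign projection is an eigenvector
  set f := Int.castRingHom ℚ
  set x := cmap f u
  set y := cmap f v
  obtain ⟨he, -⟩ := D.eigen (D.inv_cmap f h)
  set ε := eps x y
  set U := D.eA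
  let S : (A → ℚ) → ℂ := fun g => ∑ j, (g (η j) : ℂ) * ψ j
  have hSper : ∀ g : A → ℚ, (∀ a, g (a + z) = g a) → S g = 0 := by
    intro g hg
    have h1 : ψ 1 * S g = S g := by
      simp only [S, Finset.mul_sum]
      refine Finset.sum_equiv (Equiv.addRight (1 : ZMod p)) (fun _ => by simp) fun j _ => ?_
      simp only [Equiv.coe_addRight, map_add η, hη1, hg, AddChar.map_add_eq_mul]
      ring
    have hne : ψ 1 - 1 ≠ 0 := sub_ne_zero.2 fun e =>
      one_ne_zero (ZMod.injective_stdAddChar (e.trans (AddChar.map_zero_eq_one ψ).symm))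
    exact (mul_eq_zero.1 (show (ψ 1 - 1) * S g = 0 by rw [sub_mul, h1, one_mul, sub_self])).resolve_left hne
  let T : Finset A := univ.image η
  have hT : ∀ t, t + z ∈ T ↔ t ∈ T := by
    intro t
    simp only [T, Finset.mem_image, Finset.mem_univ, true_and]
    constructor
    · rintro ⟨j, hj⟩; exact ⟨j - 1, by rw [map_sub, hj, hη1, add_sub_cancel_right]⟩
    · rintro ⟨j, rfl⟩; exact ⟨j + 1, by rw [map_add, hη1]⟩
  have hTz : ∀ t, t ∈ AddSubgroup.zmultiples z → t ∈ T := by
    rintro t ⟨i, rfl⟩
    exact Finset.mem_image.2 ⟨(i : ZMod p), mem_univ _, by simp [η]⟩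
  have hsplit : ∀ a, (x * U).coeff a = (∑ j, x.coeff (η j) * U.coeff (a - η j)) +
      ∑ t ∈ Tᶜ, x.coeff t * U.coeff (a - t) := by
    intro a
    rw [coeff_mul_sum, ← Finset.sum_add_sum_compl T, Finset.sum_image fun i _ j _ e => hηinj e]
  have hper2 : ∀ a, (fun a => ∑ t ∈ Tᶜ, x.coeff t * U.coeff (a - t)) (a + z) =
      ∑ t ∈ Tᶜ, x.coeff t * U.coeff (a - t) := by
    intro a
    refine Finset.sum_equiv (Equiv.subRight z) (fun t => ?_) fun t ht => ?_
    · simp only [Finset.mem_compl, Equiv.subRight_apply]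
      rw [← hT (t - z), sub_add_cancel]
    · have htz : t - z ∉ T := by
        rw [← hT, sub_add_cancel]; exact Finset.mem_compl.1 ht
      have := hper (t - z) fun h' => htz (hTz _ h')
      rw [sub_add_cancel] at this
      simp only [Equiv.subRight_apply, x, coeff_cmap, this]
      rw [show a - (t - z) = a + z - t by abel]
  have hy : ∀ a, (y * flip D.eB).coeff (a + z) = (y * flip D.eB).coeff a :=
    periodic_mul fun a => by simp [y, hv]
  have key : (∑ j, (x.coeff (η j) : ℂ) * ψ j - ε) * S (fun a => U.coeff a) = 0 := by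
    have h1 : S (fun a => (x * U + y * flip D.eB).coeff a) = S (fun a => (ε • U).coeff a) := by
      rw [he]
    simp only [AddMonoidAlgebra.coeff_add, Finsupp.add_apply, AddMonoidAlgebra.coeff_smul,
      Finsupp.smul_apply, smul_eq_mul] at h1
    have h2 : S (fun a => (x * U).coeff a + (y * flip D.eB).coeff a) =
        (∑ j, (x.coeff (η j) : ℂ) * ψ j) * S (fun a => U.coeff a) := by
      have e : S (fun a => (x * U).coeff a + (y * flip D.eB).coeff a) =
          S (fun a => ∑ j, x.coeff (η j) * U.coeff (a - η j)) +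
          S (fun a => ∑ t ∈ Tᶜ, x.coeff t * U.coeff (a - t)) + S (fun a => (y * flip D.eB).coeff a) := by
        simp only [S, ← Finset.sum_add_distrib, hsplit, Rat.cast_add, add_mul]
      rw [e, hSper (fun a => ∑ t ∈ Tᶜ, x.coeff t * U.coeff (a - t)) hper2, hSper _ hy, add_zero, add_zero]
      simp only [S, Rat.cast_sum, Rat.cast_mul, Finset.sum_mul]
      rw [Finset.sum_comm]
      refine Finset.sum_congr rfl fun j _ => ?_
      rw [Finset.mul_sum]
      refine Finset.sum_equiv (Equiv.subRight j) (fun _ => by simp) fun i _ => ?_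
      simp only [Equiv.subRight_apply, map_sub η]
      rw [show ψ i = ψ j * ψ (i - j) by rw [← AddChar.map_add_eq_mul, add_sub_cancel]]
      ring
    have h3 : S (fun a => ε * U.coeff a) = (ε : ℂ) * S (fun a => U.coeff a) := by
      simp only [S, Rat.cast_mul, Finset.mul_sum, mul_assoc]
    rw [sub_mul, ← h2, ← h3, h1, sub_self]
  have hne : S (fun a => U.coeff a) ≠ 0 := by
    intro e
    have h1 := hconst (fun j => U.coeff (η j)) e 1
    simp only [hη1, map_zero] at h1
    have hz0 : z ≠ 0 := fun e => by rw [e, addOrderOf_zero] at hz; exact hp.ne_one hz.symm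
    have h2 := D.eVal_lt_one (P := (z, false)) (by simpa using hz0)
    simp only [U, eA, coeff_mk] at h1
    rw [h1, D.eVal_zero] at h2
    exact lt_irrefl _ h2
  have hrel : ∑ j, ((x.coeff (η j) - if j = 0 then ε else 0 : ℚ) : ℂ) * ψ j = 0 := by
    have := (mul_eq_zero.1 key).resolve_right hne
    simp only [Rat.cast_sub, sub_mul, Finset.sum_sub_distrib, apply_ite (fun q : ℚ => (q : ℂ)),
      Rat.cast_zero, ite_mul, zero_mul, Finset.sum_ite_eq', Finset.mem_univ, if_true,
      AddChar.map_zero_eq_one, mul_one]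
    exact this
  have hall := hconst _ hrel
  obtain ⟨j, -, hj⟩ := Finset.mem_image.1 (hTz w hw)
  have hj0 : j ≠ 0 := fun e => by
    rw [e, map_zero] at hj
    rw [← hj, h0] at huw
    exact zero_ne_one huw
  have h1 := (hall 1).trans (hall j).symm
  simp only [one_ne_zero, hj0, if_false, sub_zero, hη1, hj, x, coeff_cmap] at h1
  exact Int.cast_injective (α := ℚ) (h1.trans (by simp [huw, f]))

/-- An invariant pair with periodic reflection part is constant away from the origin. -/
theorem levels {u v : GA ℤ A} (h : D.Inv u v) {p : ℕ} [Fact p.Prime] {z : A}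
    (hz : addOrderOf z = p) (hv : ∀ a, v.coeff (a + z) = v.coeff a) {P : A × Bool}
    (hP : P ≠ (0, false)) : val u v P = u.coeff z := by
  classical
  set c := val u v P with hc
  set L : A × Bool → ℤ := fun Q => if Q ≠ (0, false) ∧ val u v Q = c then 1 else 0 with hL
  have hLinv : D.IsInv L := fun Q Q' hQ => by
    simp only [hL, D.ne_zero_iff hQ, h Q Q' hQ]
  set uL := mk fun a => L (a, false) with huL
  set vL := mk fun a => L (a, true) with hvL
  have hI : D.Inv uL vL := D.inv_mk hLinv
  have h01 : ∀ a, uL.coeff a = 0 ∨ uL.coeff a = 1 := fun a => by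
    simp only [huL, coeff_mk, hL]; split_ifs <;> simp
  have hvper : ∀ a, vL.coeff (a + z) = vL.coeff a := fun a => by
    simp [hvL, hL, hv]
  have hperL : ∀ a, a ∉ AddSubgroup.zmultiples z → uL.coeff (a + z) = uL.coeff a := by
    intro a ha
    rcases h01 a with e | e
    · rcases h01 (a + z) with e' | e'
      · rw [e, e']
      · have hz' : a + z ∉ AddSubgroup.zmultiples z := fun h' => ha (by
          have := sub_mem h' (AddSubgroup.mem_zmultiples z); rwa [add_sub_cancel_right] at this)
        have := D.indicator_periodic hI h01 hz hvper hz' e' (-z) (neg_mem (AddSubgroup.mem_zmultiples z))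
        rw [add_neg_cancel_right, e] at this
        exact absurd this zero_ne_one
    · rw [e, D.indicator_periodic hI h01 hz hvper ha e z (AddSubgroup.mem_zmultiples z)]
  have hL0 : uL.coeff 0 = 0 := by simp [huL, hL]
  have hex : ∃ w ∈ AddSubgroup.zmultiples z, uL.coeff w = 1 := by
    by_contra hno
    push Not at hno
    have hperall : ∀ a, uL.coeff (a + z) = uL.coeff a := by
      intro a
      by_cases ha : a ∈ AddSubgroup.zmultiples z
      · rw [(h01 a).resolve_right (hno a ha),
          (h01 _).resolve_right (hno _ (add_mem ha (AddSubgroup.mem_zmultiples z)))]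
      · exact hperL a ha
    have hz0 := D.inj (fun Q => L Q = 1) (fun Q Q' hQ => by rw [hLinv Q Q' hQ]) (by simp [hL])
      ⟨P, by simp [hL, hP, hc]⟩ z fun a b => by
        cases b
        · have := hperall a
          simp only [huL, coeff_mk] at this
          rw [this]
        · have := hvper a
          simp only [hvL, coeff_mk] at this
          rw [this]
    rw [hz0, addOrderOf_zero] at hz
    exact (Fact.out : p.Prime).ne_one hz.symm
  obtain ⟨w, hw, hw1⟩ := hex
  have h1 := D.indicator_const hI h01 hz hvper hL0 hperL hw hw1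
  simp only [huL, coeff_mk, hL] at h1
  by_contra hne
  rw [if_neg (fun h => hne h.2.symm)] at h1
  exact zero_ne_one h1

end DData

end

end CfsgLib.Char.DihedralB
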