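import Cfsg.Agent.Lib.Char.DihedralB.Endgame
import Mathlib.GroupTheory.SpecificGroups.Dihedral
import Mathlib.GroupTheory.GroupAction.MultipleTransitivity
import Mathlib.GroupTheory.GroupAction.Primitive
import Mathlib.Algebra.Order.Group.Finset
import Mathlib.Algebra.Order.BigOperators.Group.Finset

/-!
# Wielandt: dihedral groups are B-groups
-/

set_option autoImplicit false
set_option linter.all false

namespace CfsgLib.Char.DihedralB

open Finset

noncomputable section

universe u v

/-- The quotient of two points. -/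
def rel {A : Type*} [AddCommGroup A] (P Q : A × Bool) : A × Bool :=
  (cond P.2 (P.1 - Q.1) (Q.1 - P.1), xor P.2 Q.2)

@[simp] theorem rel_zero {A : Type*} [AddCommGroup A] (Q : A × Bool) : rel (0, false) Q = Q := by
  obtain ⟨a, _ | _⟩ := Q <;> simp [rel]

/-- The element of the dihedral group of a point. -/
def dih {m : ℕ} : ZMod m × Bool → DihedralGroup m
  | (a, false) => DihedralGroup.r a
  | (a, true) => DihedralGroup.sr (-a)

theorem dih_rel {m : ℕ} (P Q : ZMod m × Bool) : dih P * dih (rel P Q) = dih Q := by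
  obtain ⟨a, _ | _⟩ := P <;> obtain ⟨b, _ | _⟩ := Q <;>
    simp [dih, rel, DihedralGroup.r_mul_r, DihedralGroup.r_mul_sr, DihedralGroup.sr_mul_r,
      DihedralGroup.sr_mul_sr] <;> abel

theorem dih_bijective {m : ℕ} : Function.Bijective (dih (m := m)) := by
  refine ⟨?_, ?_⟩
  · rintro ⟨a, _ | _⟩ ⟨b, _ | _⟩ h <;> simp_all [dih]
  · rintro (a | a)
    · exact ⟨(a, false), rfl⟩
    · exact ⟨(-a, true), by simp [dih]⟩

/-- The action of `G` in coordinates: the permutations of the points, preserving primitivity. -/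
theorem main {G : Type u} {Ω : Type v} [Group G] [Finite G] [MulAction G Ω] [Finite Ω]
    (hprim : MulAction.IsPreprimitive G Ω) (D : Subgroup G) (m : ℕ)
    (hD : Nonempty (↥D ≃* DihedralGroup m))
    (hreg : MulAction.IsPretransitive ↥D Ω ∧ ∀ a : Ω, MulAction.stabilizer ↥D a = ⊥) :
    MulAction.IsMultiplyPretransitive G Ω 2 := by
  classical
  rw [MulAction.is_two_pretransitive_iff]
  intro a b c d hab hcd
  obtain ⟨ω⟩ : Nonempty Ω := ⟨a⟩
  obtain ⟨eD⟩ := hD
  haveI : Finite (DihedralGroup m) := Finite.of_equiv _ eD.toEquiv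
  haveI : NeZero m := ⟨fun h0 => by
    subst h0
    exact not_finite (DihedralGroup 0)⟩
  haveI := hreg.1
  -- coordinates
  have hbij : Function.Bijective fun P : ZMod m × Bool => (eD.symm (dih P) : D) • ω := by
    refine (Function.Bijective.comp ⟨?_, MulAction.exists_smul_eq D ω⟩ (eD.symm.bijective.comp dih_bijective) :)
    intro x y (h : x • ω = y • ω)
    have : y⁻¹ * x ∈ MulAction.stabilizer D ω := by
      rw [MulAction.mem_stabilizer_iff, mul_smul, h, inv_smul_smul]
    rw [hreg.2, Subgroup.mem_bot, inv_mul_eq_one] at this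
    exact this.symm
  set E := Equiv.ofBijective _ hbij with hE
  have hEapp : ∀ P, E P = ((eD.symm (dih P) : D) : G) • ω := fun P => rfl
  set δ : ZMod m × Bool → G := fun P => ((eD.symm (dih P) : D) : G) with hδ
  have hδrel : ∀ P Q, δ P * δ (rel P Q) = δ Q := fun P Q => by
    simp only [hδ, ← Subgroup.coe_mul, ← map_mul, dih_rel]
  have hErel : ∀ P Q, δ P • E (rel P Q) = E Q := fun P Q => by
    rw [hEapp, hEapp, smul_smul]
    exact congrArg (· • ω) (hδrel P Q)
  have hE0 : E (0, false) = ω := by
    rw [hEapp]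
    simp [dih, DihedralGroup.r_zero]
  -- the classes
  set cls : ZMod m × Bool → Finset (ZMod m × Bool) := fun P =>
    univ.filter fun Q => ∃ g : G, g • ω = ω ∧ g • E P = E Q with hcls
  have hmem : ∀ {P Q}, Q ∈ cls P ↔ ∃ g : G, g • ω = ω ∧ g • E P = E Q := fun {P Q} => by
    simp [hcls]
  let act : G → ZMod m × Bool → ZMod m × Bool := fun g P => E.symm (g • E P)
  have hact : ∀ g P, E (act g P) = g • E P := fun g P => E.apply_symm_apply _
  have hmove : ∀ (g : G) P Q, rel (act g P) (act g Q) ∈ cls (rel P Q) := by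
    intro g P Q
    refine hmem.2 ⟨(δ (act g P))⁻¹ * (g * δ P), ?_, ?_⟩
    · rw [mul_smul, mul_smul, show δ P • ω = E P from (hEapp P).symm, ← hact, inv_smul_eq_iff]
      exact hEapp _
    · rw [mul_smul, mul_smul, hErel, ← hact, inv_smul_eq_iff, hErel]
  have hkernel : ∀ {M : Type} (φ : ZMod m × Bool → M), (∀ P, ∀ Q ∈ cls P, φ Q = φ P) →
      ∀ (g : G) P Q, φ (rel (act g P) (act g Q)) = φ (rel P Q) :=
    fun φ hφ g P Q => hφ _ _ (hmove g P Q)
  -- blocks
  have hblock : ∀ R : ZMod m × Bool → ZMod m × Bool → Prop, Equivalence R →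
      (∀ (g : G) P Q, R P Q → R (act g P) (act g Q)) → ∀ z, R (0, false) z → z ≠ (0, false) →
        ∀ P, R (0, false) P := by
    intro R hR hRg z hz hz0 P
    set U : Set Ω := {x | R (0, false) (E.symm x)} with hU
    have hU' : MulAction.IsBlock G U := by
      rw [MulAction.isBlock_iff_smul_eq_of_mem]
      intro g x hx hgx
      simp only [hU, Set.mem_setOf_eq] at hx hgx
      have h1 : R (act g (0, false)) (0, false) := by
        refine hR.trans ?_ (hR.symm hgx)
        have := hRg g _ _ hx
        simpa [act] using this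
      ext y
      rw [Set.mem_smul_set_iff_inv_smul_mem]
      simp only [hU, Set.mem_setOf_eq]
      constructor
      · intro hy
        have := hRg g _ _ hy
        simp only [act, Equiv.apply_symm_apply, smul_inv_smul] at this
        exact hR.trans (hR.symm h1) this
      · intro hy
        have h2 := hRg g⁻¹ _ _ (hR.trans h1 hy)
        simpa [act, inv_smul_smul] using h2
    rcases hprim.isTrivialBlock_of_isBlock hU' with h | h
    · refine absurd ?_ hz0
      refine E.injective (h ?_ ?_)
      · simpa [hU] using hz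
      · simpa [hU] using hR.refl _
    · have : E P ∈ U := h ▸ Set.mem_univ _
      simpa [hU] using this
  -- the mandatory properties
  have hzero : cls (0, false) = {(0, false)} := by
    ext Q
    rw [hmem, Finset.mem_singleton]
    constructor
    · rintro ⟨g, hg, hg'⟩
      rw [hE0, hg, ← hE0] at hg'
      exact E.injective hg'.symm
    · rintro rfl
      exact ⟨1, one_smul _ _, one_smul _ _⟩
  have heq : ∀ {P Q}, Q ∈ cls P → cls Q = cls P := by
    intro P Q hQ
    obtain ⟨g, hg, hg'⟩ := hmem.1 hQ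
    ext R
    rw [hmem, hmem]
    constructor
    · rintro ⟨k, hk, hk'⟩
      exact ⟨k * g, by rw [mul_smul, hg, hk], by rw [mul_smul, hg', hk']⟩
    · rintro ⟨k, hk, hk'⟩
      refine ⟨k * g⁻¹, ?_, ?_⟩
      · rw [mul_smul, show g⁻¹ • ω = ω from inv_smul_eq_iff.2 hg.symm, hk]
      · rw [mul_smul, ← hg', inv_smul_smul, hk']
  have hself : ∀ P, P ∈ cls P := fun P => hmem.2 ⟨1, one_smul _ _, one_smul _ _⟩
  have hact0 : ∀ g : G, g • ω = ω → act g (0, false) = (0, false) := fun g hg => by
    simp only [act, hE0, hg]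
    rw [Equiv.symm_apply_eq, hE0]
  have hmul : ∀ (R : Type) [CommRing R] (u v u' v' : GA R (ZMod m)),
      (∀ P, ∀ Q ∈ cls P, val u v Q = val u v P) → (∀ P, ∀ Q ∈ cls P, val u' v' Q = val u' v' P) →
      ∀ P, ∀ Q ∈ cls P, val (u * u' + v * flip v') (u * v' + v * flip u') Q =
        val (u * u' + v * flip v') (u * v' + v * flip u') P := by
    intro R _ u v u' v' h h'
    have hprod : ∀ P, val (u * u' + v * flip v') (u * v' + v * flip u') P =
        ∑ S, val u v S * val u' v' (rel S P) := by
      rintro ⟨a, _ | _⟩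
      · rw [sum_points]
        simp [rel, coeff_mul_sum, coeff_mul_flip, val, neg_sub]
      · rw [sum_points]
        simp [rel, coeff_mul_sum, coeff_mul_flip, val, neg_sub]
    intro P Q hQ
    obtain ⟨g, hg, hg'⟩ := hmem.1 hQ
    have hQP : act g P = Q := by simp [act, hg']
    rw [hprod, hprod, ← hQP]
    refine (Finset.sum_equiv (show ZMod m × Bool ≃ ZMod m × Bool from
      (E.trans (MulAction.toPerm g)).trans E.symm) (fun _ => by simp) fun S _ => ?_).symm
    show val u v S * val u' v' (rel S P) = val u v (act g S) * val u' v' (rel (act g S) (act g P))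
    rw [hkernel (val u' v') h' g S P]
    have := hkernel (val u v) h g (0, false) S
    rw [hact0 g hg, rel_zero, rel_zero] at this
    rw [this]
  -- connectedness
  have hconn : ∀ φ : ZMod m × Bool → Prop, (∀ P, ∀ Q ∈ cls P, φ Q ↔ φ P) →
      ∀ P₀, φ P₀ → P₀ ≠ (0, false) → ∀ S : ZMod m × Bool → Prop, S (0, false) →
        (∀ P Q, φ (rel P Q) → (S P ↔ S Q)) → ∀ P, S P := by
    intro φ hφ P₀ hP₀ hP₀ne S hS0 hS P
    let R : ZMod m × Bool → ZMod m × Bool → Prop := fun P Q =>
      ∀ T : ZMod m × Bool → Prop, (∀ P Q, φ (rel P Q) → (T P ↔ T Q)) → (T P ↔ T Q)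
    have hR : Equivalence R := ⟨fun _ _ _ => Iff.rfl, fun h T hT => (h T hT).symm,
      fun h h' T hT => (h T hT).trans (h' T hT)⟩
    refine (hblock R hR (fun g P Q h T hT => ?_) P₀ (fun T hT => hT _ _ (by rwa [rel_zero])) hP₀ne P
      S hS).1 hS0
    exact h (fun P => T (act g P)) fun P Q hPQ => hT _ _ ((hφ _ _ (hmove g P Q)).2 hPQ)
  have hiff : ∀ C : ZMod m × Bool, ∀ P, ∀ Q ∈ cls P, Q ∈ cls C ↔ P ∈ cls C := by
    intro C P Q hQ
    constructor <;> intro h
    · have := heq h; rw [heq hQ] at this; rw [← this]; exact hself P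
    · rw [← heq h]; exact hQ
  have hBex : ∀ P, P ≠ (0, false) → ∃ a, (a, true) ∈ cls P := by
    intro P hP
    by_contra hno
    push Not at hno
    refine absurd (hconn (fun Q => Q ∈ cls P) (hiff P) P (hself P) hP (fun Q => Q.2 = false) rfl
      (fun S T hST => ?_) (0, true)) (by simp)
    obtain ⟨s, _ | _⟩ := S <;> obtain ⟨t, _ | _⟩ := T <;> simp [rel] at hST ⊢ <;>
      exact hno _ hST
  have hsymm : ∀ a, (-a, false) ∈ cls (a, false) := by
    intro a
    by_cases ha : a = 0
    · subst ha; rw [neg_zero]; exact hself _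
    obtain ⟨b, hb⟩ := hBex (a, false) (by simpa using ha)
    obtain ⟨g, hg, hg'⟩ := hmem.1 hb
    have h1 := hmove g (a, false) (0, false)
    rw [hact0 g hg, show act g (a, false) = (b, true) by simp [act, hg']] at h1
    simp [rel] at h1
    rw [← heq hb, heq h1]
    exact hself _
  by_cases hm : m = 1
  · -- two points
    subst hm
    haveI := hprim.toIsPretransitive
    obtain ⟨g, hg⟩ := MulAction.exists_smul_eq G a c
    refine ⟨g, hg, ?_⟩
    by_contra hne
    have h2 : ({c, d, g • b} : Finset Ω).card ≤ 2 := by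
      haveI := Fintype.ofFinite Ω
      refine (Finset.card_le_univ _).trans (le_of_eq ?_)
      rw [← Fintype.card_congr E, Fintype.card_prod, ZMod.card, Fintype.card_bool]
    rw [Finset.card_insert_of_notMem (by
      simp only [Finset.mem_insert, Finset.mem_singleton, not_or]
      exact ⟨hcd, fun e => hab ((MulAction.injective g) (hg.trans e))⟩),
      Finset.card_pair (Ne.symm hne)] at h2
    omega
  have hm2 : 2 ≤ m := by have := NeZero.ne m; omega
  have hAex : ∀ P, P ≠ (0, false) → ∃ a, (a, false) ∈ cls P := by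
    intro P hP
    by_contra hno
    push Not at hno
    set v : GA ℤ (ZMod m) := mk fun a => if (a, true) ∈ cls P then 1 else 0 with hv
    have hval : ∀ Q, val (0 : GA ℤ (ZMod m)) v Q = if Q ∈ cls P then 1 else 0 := by
      rintro ⟨a, _ | _⟩
      · simp [hno a]
      · simp [hv]
    have hinv : ∀ Q, ∀ Q' ∈ cls Q, val (0 : GA ℤ (ZMod m)) v Q' = val (0 : GA ℤ (ZMod m)) v Q := by
      intro Q Q' hQ'
      rw [hval, hval]
      simp only [hiff P Q Q' hQ']
    have h2 := hmul ℤ 0 v 0 v hinv hinv
    have hvv : ∀ t, t ≠ (0 : ZMod m) → (v * flip v).coeff t = 0 := by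
      intro t ht
      obtain ⟨b, hb⟩ := hBex (t, false) (by simpa using ht)
      have := h2 _ _ hb
      simpa using this.symm
    have hv01 : ∀ t, 0 ≤ v.coeff t := fun t => by simp [hv]; split_ifs <;> simp
    have huniq : ∀ s t, (s, true) ∈ cls P → (t, true) ∈ cls P → s = t := by
      intro s t hs ht
      by_contra hne
      have := hvv (s - t) (sub_ne_zero.2 hne)
      rw [coeff_mul_flip, Finset.sum_eq_zero_iff_of_nonneg fun x _ => mul_nonneg (hv01 _) (hv01 _)] at this
      have h3 := this s (mem_univ _)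
      rw [sub_sub_cancel] at h3
      simp [hv, hs, ht] at h3
    obtain ⟨b, hb⟩ := hBex P hP
    have := hconn (fun Q => Q ∈ cls P) (hiff P) P (hself P) hP
      (fun Q => Q = (0, false) ∨ Q = (b, true)) (Or.inl rfl) (fun S T hST => ?_) (1, false)
    · rcases this with h | h
      · haveI : Fact (1 < m) := ⟨by omega⟩
        exact one_ne_zero (congrArg Prod.fst h)
      · simp at h
    have hS : rel S T = (b, true) := by
      obtain ⟨x, hx⟩ : ∃ x, rel S T = x := ⟨_, rfl⟩
      rw [hx] at hST ⊢
      obtain ⟨t, _ | _⟩ := x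
      · exact absurd hST (hno t)
      · rw [huniq t b hST hb]
    obtain ⟨s, _ | _⟩ := S <;> obtain ⟨t, _ | _⟩ := T <;> simp [rel] at hS ⊢
    · constructor <;> intro h <;> subst h
      · simpa using hS
      · first
          | exact sub_eq_self.1 hS
          | exact sub_eq_self.1 hS.symm
    · constructor <;> intro h <;> subst h
      · first
          | exact sub_eq_self.1 hS
          | exact sub_eq_self.1 hS.symm
      · simpa using hS
  let S : DData (ZMod m) :=
    { cls := cls, mem_self := hself, eq_of_mem := heq, cls_zero := hzero, symm := hsymm,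
      hasA := hAex, hasB := hBex, mul := hmul
      inj := by
        intro φ hφ h0 ⟨P₀, hP₀⟩ z hz
        by_contra hz0
        have hR := hblock (fun P Q => ∀ W, φ (rel P W) ↔ φ (rel Q W))
          ⟨fun _ _ => Iff.rfl, fun h W => (h W).symm, fun h h' W => (h W).trans (h' W)⟩
          (fun g P Q h W => by
            obtain ⟨W', rfl⟩ : ∃ W', act g W' = W := ⟨act g⁻¹ W, by simp [act]⟩
            rw [hφ _ _ (hmove g P W'), hφ _ _ (hmove g Q W')]
            exact h W')
          (z, false) (fun W => by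
            obtain ⟨w, s⟩ := W
            rw [rel_zero, show rel (z, false) (w, s) = (w - z, s) by simp [rel]]
            have := hz (w - z) s
            rwa [sub_add_cancel] at this) (by simpa using hz0) P₀
        have h1 := (hR P₀).1 (by rwa [rel_zero])
        refine h0 ?_
        obtain ⟨x, _ | _⟩ := P₀ <;> simpa [rel] using h1 }
  have htrans := DData.transitive S (by rw [ZMod.card]; omega)
  -- conclusion
  have hpair : ∀ x y : Ω, x ≠ y → ∀ z : Ω, z ≠ ω → ∃ g : G, g • ω = x ∧ g • z = y := by
    intro x y hxy z hz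
    set P := E.symm x
    have hs : δ P • ω = x := by rw [← hEapp, Equiv.apply_symm_apply]
    have h1 : E.symm z ≠ (0, false) := fun e => hz (by rw [← E.apply_symm_apply z, e, hE0])
    have h2 : E.symm ((δ P)⁻¹ • y) ≠ (0, false) := fun e => hxy (by
      rw [Equiv.symm_apply_eq, hE0, inv_smul_eq_iff, hs] at e
      exact e.symm)
    obtain ⟨k, hk, hk'⟩ := hmem.1 (htrans _ h1 _ h2)
    rw [Equiv.apply_symm_apply, Equiv.apply_symm_apply] at hk'
    exact ⟨δ P * k, by rw [mul_smul, hk, hs], by rw [mul_smul, hk', smul_inv_smul]⟩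
  obtain ⟨z, hz⟩ : ∃ z : Ω, z ≠ ω := ⟨E (0, true), fun e => by
    have := E.injective (e.trans hE0.symm); simp at this⟩
  obtain ⟨g₁, hg₁, hg₁'⟩ := hpair a b hab z hz
  obtain ⟨g₂, hg₂, hg₂'⟩ := hpair c d hcd z hz
  exact ⟨g₂ * g₁⁻¹, by rw [← hg₁, mul_smul, inv_smul_smul, hg₂],
    by rw [← hg₁', mul_smul, inv_smul_smul, hg₂']⟩

end

end CfsgLib.Char.DihedralB
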